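import Groth.Agent.S2069
import Groth.Agent.S2507
import Mathlib.RingTheory.TensorProduct.Quotient

/-!
# Descent of an ideal without embedded behaviour along flat algebras

If `B k` are finitely many flat Noetherian algebras with ideals `J k` which, above every prime of `A`
coming from an associated prime of some `B k / J k`, are locally induced from one ideal of `A`,
then the intersection of their contractions induces every `J k`.
-/

set_option autoImplicit false
set_option backward.isDefEq.respectTransparency false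

universe u v

open TensorProduct

namespace Groth.Agent.DivDesc

variable {A : Type u} [CommRing A] {κ : Type v} (B : κ → Type u) [∀ k, CommRing (B k)]
  [∀ k, Algebra A (B k)] (J : ∀ k, Ideal (B k))

/-- The ideals `J k` are induced from `I₁` at all primes over generisations of `p`. -/
def Agree (p I₁ : Ideal A) : Prop :=
  ∀ k, ∀ q : Ideal (B k), q.IsPrime → q.comap (algebraMap A (B k)) ≤ p →
    (∀ a ∈ I₁, ∃ s ∉ q, s * algebraMap A (B k) a ∈ J k) ∧
      ∀ b ∈ J k, ∃ s ∉ q, s * b ∈ I₁.map (algebraMap A (B k))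

theorem comap_eq_of_mem_ass_quotient {B : Type u} [CommRing B] [Algebra A B] [Module.Flat A B]
    {p : Ideal A} [p.IsPrime] {q : Ideal B}
    (hq : q ∈ associatedPrimes B (B ⧸ p.map (algebraMap A B) • (⊤ : Submodule B B))) [IsNoetherianRing B] :
    q.comap (algebraMap A B) = p := by
  classical
  have heq : p.map (algebraMap A B) • (⊤ : Submodule B B) = p.map (algebraMap A B) :=
    Ideal.mul_top _
  rw [heq] at hq
  obtain ⟨hqp, z, hz⟩ := isAssociatedPrime_iff.1 hq
  have hmem : ∀ c, c ∈ q ↔ c • z = 0 := fun c => by rw [hz]; simp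
  refine le_antisymm (fun a ha => ?_) fun a ha => ?_
  · by_contra hap
    let e := Algebra.TensorProduct.quotIdealMapEquivTensorQuot B p
    have hμ : Function.Injective (LinearMap.lsmul A (A ⧸ p) a) := by
      intro x y hxy
      have h1 : Ideal.Quotient.mk p a * x = Ideal.Quotient.mk p a * y := by
        simpa [Algebra.smul_def] using hxy
      exact mul_left_cancel₀ (fun h => hap (Ideal.Quotient.eq_zero_iff_mem.1 h)) h1
    have hinj := Module.Flat.lTensor_preserves_injective_linearMap (M := B) _ hμ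
    have hsm : ∀ w : B ⊗[A] (A ⧸ p), (LinearMap.lsmul A (A ⧸ p) a).lTensor B w = a • w := fun w => by
      induction w using TensorProduct.induction_on with
      | zero => simp
      | tmul x y => simp [TensorProduct.tmul_smul]
      | add x y hx hy => simp only [map_add, smul_add, hx, hy]
    have h0 : algebraMap A B a • z = 0 := (hmem _).1 ha
    have h2 : (LinearMap.lsmul A (A ⧸ p) a).lTensor B (e z) = 0 := by
      rw [hsm, ← IsScalarTower.algebraMap_smul B a, ← map_smul, h0, map_zero]
    have h3 : z = 0 := e.injective ((hinj (h2.trans (map_zero _).symm)).trans (map_zero e).symm)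
    apply hqp.ne_top
    rw [Ideal.eq_top_iff_one, hmem, h3, smul_zero]
  · rw [Ideal.mem_comap, hmem]
    obtain ⟨w, rfl⟩ := Ideal.Quotient.mk_surjective z
    rw [Algebra.smul_def, Ideal.Quotient.algebraMap_eq, ← map_mul, Ideal.Quotient.eq_zero_iff_mem]
    exact Ideal.mul_mem_right _ _ (Ideal.mem_map_of_mem _ ha)

theorem exists_ass_of_mem_ass_iInf [Finite κ] [∀ k, IsNoetherianRing (B k)] [IsNoetherianRing A]
    {p : Ideal A} (hp : p ∈ associatedPrimes A (A ⧸ ⨅ k, (J k).comap (algebraMap A (B k)))) :
    ∃ k, ∃ q ∈ associatedPrimes (B k) (B k ⧸ J k), q.comap (algebraMap A (B k)) = p := by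
  classical
  cases nonempty_fintype κ
  obtain ⟨hpp, x, hx⟩ := isAssociatedPrime_iff.1 hp
  obtain ⟨a, rfl⟩ := Ideal.Quotient.mk_surjective x
  have hmem : ∀ c, c ∈ p ↔ ∀ k, algebraMap A (B k) (c * a) ∈ J k := fun c => by
    rw [hx]
    simp only [Submodule.mem_colon_singleton, Submodule.mem_bot, Algebra.smul_def,
      Ideal.Quotient.algebraMap_eq, ← map_mul, Ideal.Quotient.eq_zero_iff_mem, Ideal.mem_iInf,
      Ideal.mem_comap]
  let f : κ → Ideal A := fun k =>
    { carrier := {c | algebraMap A (B k) (c * a) ∈ J k}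
      add_mem' := fun {c d} hc hd => by
        show algebraMap A (B k) ((c + d) * a) ∈ J k
        rw [add_mul, map_add]; exact add_mem hc hd
      zero_mem' := by show algebraMap A (B k) (0 * a) ∈ J k; simp
      smul_mem' := fun c d hd => by
        show algebraMap A (B k) (c • d * a) ∈ J k
        rw [smul_eq_mul, mul_assoc, map_mul]; exact Ideal.mul_mem_left _ _ hd }
  have hle : Finset.univ.inf f ≤ p := fun c hc => (hmem c).2 fun k =>
    (Finset.inf_le (f := f) (Finset.mem_univ k)) hc
  obtain ⟨k, -, hk⟩ := (Ideal.IsPrime.inf_le' hpp).1 hle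
  refine ⟨k, ?_⟩
  have hA : p ∈ associatedPrimes A (B k ⧸ J k) := by
    refine isAssociatedPrime_iff.2 ⟨hpp, Ideal.Quotient.mk (J k) (algebraMap A (B k) a), ?_⟩
    ext c
    rw [Submodule.mem_colon_singleton, Submodule.mem_bot, Algebra.smul_def,
      IsScalarTower.algebraMap_apply A (B k) (B k ⧸ J k) c, Ideal.Quotient.algebraMap_eq, ← map_mul,
      ← map_mul, Ideal.Quotient.eq_zero_iff_mem]
    exact ⟨fun h => (hmem c).1 h k, fun h => hk h⟩
  rw [S2507.result (A := A) (B := B k) (B k ⧸ J k)] at hA
  obtain ⟨q, hq, hqp⟩ := hA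
  exact ⟨q, hq, hqp⟩

theorem map_iInf [Finite κ] [∀ k, IsNoetherianRing (B k)] [IsNoetherianRing A] [∀ k, Module.Flat A (B k)]
    (H : ∀ k, ∀ q ∈ associatedPrimes (B k) (B k ⧸ J k),
      ∃ I₁ : Ideal A, Agree B J (q.comap (algebraMap A (B k))) I₁) (k : κ) :
    (⨅ k', (J k').comap (algebraMap A (B k'))).map (algebraMap A (B k)) = J k := by
  classical
  cases nonempty_fintype κ
  set I := ⨅ k', (J k').comap (algebraMap A (B k')) with hI
  refine le_antisymm (Ideal.map_le_iff_le_comap.2 (iInf_le _ k)) fun b hb => ?_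
  by_contra hb'
  have hz : Ideal.Quotient.mk (I.map (algebraMap A (B k))) b ≠ 0 := fun h =>
    hb' (Ideal.Quotient.eq_zero_iff_mem.1 h)
  obtain ⟨q, hq, hle⟩ := exists_le_isAssociatedPrime_of_isNoetherianRing (B k) _ hz
  have hqp : q.IsPrime := hq.isPrime
  have hq' : q ∈ associatedPrimes (B k) (B k ⊗[A] (A ⧸ I)) := by
    rw [← LinearEquiv.AssociatedPrimes.eq
      (Algebra.TensorProduct.quotIdealMapEquivTensorQuot (B k) I).toLinearEquiv]
    exact hq
  rw [S2069.result (R := A) (S := B k) (M := A ⧸ I) (N := B k)] at hq'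
  simp only [Set.mem_iUnion] at hq'
  obtain ⟨p, hp, hqB⟩ := hq'
  haveI := hp.isPrime
  have hc : q.comap (algebraMap A (B k)) = p := comap_eq_of_mem_ass_quotient hqB
  obtain ⟨k₀, q₀, hq₀, hc₀⟩ := exists_ass_of_mem_ass_iInf B J hp
  obtain ⟨I₁, hI₁⟩ := H k₀ q₀ hq₀
  rw [hc₀] at hI₁
  -- `I₁` lies in `I` at `p`
  have hle1 : ∀ a ∈ I₁, ∃ s ∉ p, s * a ∈ I := by
    intro a ha
    have key : ∀ k', ∃ s ∉ p, algebraMap A (B k') (s * a) ∈ J k' := by
      intro k'
      by_contra hno
      push Not at hno
      let c : Ideal (B k') :=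
        { carrier := {y | y * algebraMap A (B k') a ∈ J k'}
          add_mem' := fun {y z} hy hz => by
            show (y + z) * algebraMap A (B k') a ∈ J k'
            rw [add_mul]; exact add_mem hy hz
          zero_mem' := by show 0 * algebraMap A (B k') a ∈ J k'; simp
          smul_mem' := fun y z hz => by
            show y • z * algebraMap A (B k') a ∈ J k'
            rw [smul_eq_mul, mul_assoc]; exact Ideal.mul_mem_left _ _ hz }
      have hd : Disjoint (c : Set (B k'))
          (p.primeCompl.map (algebraMap A (B k')) : Submonoid (B k')) := by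
        rw [Set.disjoint_left]
        rintro y hy ⟨s, hs, rfl⟩
        exact hno s hs (by rw [map_mul]; exact hy)
      obtain ⟨q', hq'p, hcq, hdq⟩ := Ideal.exists_le_prime_disjoint c _ hd
      have hcomap : q'.comap (algebraMap A (B k')) ≤ p := fun s hs => by
        by_contra hsp
        exact Set.disjoint_left.1 hdq hs ⟨s, hsp, rfl⟩
      obtain ⟨s, hs, hs'⟩ := (hI₁ k' q' hq'p hcomap).1 a ha
      exact hs (hcq hs')
    choose s hs hsJ using key
    refine ⟨∏ k', s k', fun h => ?_, ?_⟩
    · obtain ⟨k', -, hk'⟩ := (Ideal.IsPrime.prod_mem_iff (hp := inferInstance)).1 h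
      exact hs k' hk'
    · rw [hI, Ideal.mem_iInf]
      intro k'
      rw [Ideal.mem_comap, ← Finset.mul_prod_erase _ _ (Finset.mem_univ k'), mul_comm (s k'), mul_assoc,
        map_mul]
      exact Ideal.mul_mem_left _ _ (hsJ k')
  -- hence `J k` lies in `I B` at `q`
  have hle2 : I₁.map (algebraMap A (B k)) ≤
      ((I.map (algebraMap A (B k))).map (algebraMap (B k) (Localization.AtPrime q))).comap
        (algebraMap (B k) (Localization.AtPrime q)) := by
    rw [Ideal.map_le_iff_le_comap]
    intro a ha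
    obtain ⟨s, hs, hsI⟩ := hle1 a ha
    rw [Ideal.mem_comap, Ideal.mem_comap,
      IsLocalization.algebraMap_mem_map_algebraMap_iff q.primeCompl]
    exact ⟨algebraMap A (B k) s, fun h => hs (hc ▸ h), by rw [← map_mul]; exact Ideal.mem_map_of_mem _ hsI⟩
  obtain ⟨s, hs, hsb⟩ := (hI₁ k q hqp hc.le).2 b hb
  have h1 := hle2 hsb
  rw [Ideal.mem_comap, IsLocalization.algebraMap_mem_map_algebraMap_iff q.primeCompl] at h1
  obtain ⟨t, ht, htb⟩ := h1
  apply q.primeCompl.mul_mem ht (hs : s ∈ q.primeCompl)
  apply hle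
  rw [Submodule.mem_colon_singleton, Submodule.mem_bot, Algebra.smul_def,
    Ideal.Quotient.algebraMap_eq, ← map_mul, Ideal.Quotient.eq_zero_iff_mem, mul_assoc]
  exact htb

end Groth.Agent.DivDesc
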