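import Groth.Agent.DivDesc.Scheme
import Groth.Agent.DivPart.Basic
import Groth.Agent.CMFlat.Scheme
import Groth.Agent.Catenary.NormalDepth
import Groth.Agent.BlowUpLib.Basic
import Groth.Prelude.Def_Pi1
import Mathlib.RingTheory.DiscreteValuationRing.TFAE
import Mathlib.RingTheory.Ideal.KrullsHeightTheorem

/-!
# Vertical effective divisors over a normal base with integral fibres in codimension one
-/

set_option autoImplicit false
set_option backward.isDefEq.respectTransparency false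
set_option backward.isDefEq.respectTransparency.types false
set_option linter.style.haveILetI false

universe u

open CategoryTheory CategoryTheory.Limits AlgebraicGeometry TopologicalSpace IsLocalRing

namespace Groth.Agent.DivDesc

open DivPart

/-- A divisor whose support lies in an integral principal divisor is a multiple of it. -/
theorem exists_eq_span_pow_of_support {R : Type u} [CommRing R] [IsNoetherianRing R] [IsLocalRing R] {π g : R}
    (hπ : π ∈ nonZeroDivisors R) (hp : (Ideal.span {π}).IsPrime) (hg : g ∈ nonZeroDivisors R)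
    (hsupp : ∀ Q : Ideal R, Q.IsPrime → g ∈ Q → π ∈ Q) :
    ∃ m : ℕ, Ideal.span ({g} : Set R) = Ideal.span {π ^ m} := by
  classical
  have hne : Ideal.span ({π} : Set R) ≠ ⊤ := hp.ne_top
  have hex : ∃ n, g ∉ Ideal.span ({π ^ n} : Set R) := by
    by_contra hno
    push Not at hno
    have hmem : g ∈ ⨅ n : ℕ, Ideal.span ({π} : Set R) ^ n := by
      rw [Ideal.mem_iInf]
      intro n
      rw [Ideal.span_singleton_pow]
      exact hno n
    rw [Ideal.iInf_pow_eq_bot_of_isLocalRing _ hne] at hmem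
    exact nonZeroDivisors.ne_zero hg hmem
  obtain ⟨m, hm⟩ : ∃ m, Nat.find hex = m + 1 :=
    Nat.exists_eq_succ_of_ne_zero fun h0 => Nat.find_spec hex (by rw [h0, pow_zero, Ideal.span_singleton_one]; trivial)
  obtain ⟨c, hc⟩ := Ideal.mem_span_singleton.1 (not_not.1 (Nat.find_min hex (by omega : m < Nat.find hex)))
  have hcπ : c ∉ Ideal.span ({π} : Set R) := fun h => by
    obtain ⟨d, rfl⟩ := Ideal.mem_span_singleton.1 h
    exact Nat.find_spec hex (by rw [hm]; exact Ideal.mem_span_singleton.2 ⟨d, by rw [hc, pow_succ]; ring⟩)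
  refine ⟨m, ?_⟩
  have hu : IsUnit c := by
    by_contra hu
    obtain ⟨Q, hQ, -⟩ := Ideal.exists_minimalPrimes_le
      ((Ideal.span_singleton_le_iff_mem _).2 ((IsLocalRing.mem_maximalIdeal c).2 hu))
    haveI := hQ.1.1
    have hcQ : c ∈ Q := hQ.1.2 (Ideal.mem_span_singleton_self c)
    have hπQ : π ∈ Q := hsupp Q hQ.1.1 (hc ▸ Q.mul_mem_left _ hcQ)
    have hle : Ideal.span ({π} : Set R) ≤ Q := (Ideal.span_singleton_le_iff_mem _).2 hπQ
    have hlt : Ideal.span ({π} : Set R) < Q :=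
      lt_of_le_of_ne hle fun h => hcπ (h ▸ hcQ)
    have h1 : Q.height ≤ 1 := Ideal.height_le_one_of_isPrincipal_of_mem_minimalPrimes _ Q hQ
    haveI := hp
    have h2 := Ideal.height_strict_mono_of_isPrime_of_isPrime hlt
    have h3 : (Ideal.span ({π} : Set R)).height ≠ 0 :=
      fun h0 => absurd (Ideal.one_le_height_span_singleton_of_mem_nonZeroDivisors hπ) (by rw [h0]; simp)
    have h4 : (Ideal.span ({π} : Set R)).height < 1 := lt_of_lt_of_le h2 h1
    exact h3 (ENat.lt_one_iff_eq_zero.1 h4)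
  rw [hc, Ideal.span_singleton_mul_right_unit hu]

/-- A generator near a point of the local ideal of a divisor. -/
theorem exists_stI_generator {X : Scheme.{u}} {𝓙 : X.IdealSheafData} (hJ : BlowUp.IsEffCartierIdeal 𝓙)
    (W : X.affineOpens) {x : X} (hx : x ∈ W.1) :
    ∃ g ∈ nonZeroDivisors (X.presheaf.stalk x), stI 𝓙 W hx = Ideal.span {g} := by
  obtain ⟨V, hxV, -, g, hg, he⟩ := BlowUpLib.exists_small_generator hJ (O := ⊤) (x := x) trivial
  refine ⟨(X.presheaf.germ V.1 x hxV).hom g, ?_, ?_⟩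
  · refine BlowUpLib.mem_nonZeroDivisors_map_of_flat (X.presheaf.germ V.1 x hxV) ?_ hg
    letI := (X.presheaf.germ V.1 x hxV).hom.toAlgebra
    haveI := V.2.isLocalization_stalk ⟨x, hxV⟩
    exact IsLocalization.flat _ (V.2.primeIdealOf ⟨x, hxV⟩).asIdeal.primeCompl
  · rw [stI_eq 𝓙 W V hx hxV, stI, he, Ideal.map_span, Set.image_singleton]

theorem pr_fromSpec {X : Scheme.{u}} (W : X.affineOpens) (q : PrimeSpectrum Γ(X, W.1))
    (h : W.2.fromSpec q ∈ W.1) : pr W h = q.asIdeal :=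
  congrArg PrimeSpectrum.asIdeal
    (W.2.fromSpec.isOpenEmbedding.injective (W.2.fromSpec_primeIdealOf ⟨_, h⟩))

variable {X Y : Scheme.{u}} (f : X ⟶ Y)

theorem apply_fromSpec (U : Y.affineOpens) (W : X.affineOpens) (e : W.1 ≤ f ⁻¹ᵁ U.1)
    (q : PrimeSpectrum Γ(X, W.1)) :
    f (W.2.fromSpec q) = U.2.fromSpec (PrimeSpectrum.comap (f.appLE U.1 W.1 e).hom q) :=
  congr($(IsAffineOpen.SpecMap_appLE_fromSpec f U.2 W.2 e).base q).symm

/-- At a point with no generisation outside itself but one, the local ideals are powers of a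
uniformiser. -/
theorem exists_agree_of_dim_le_one [IsLocallyNoetherian X] [IsLocallyNoetherian Y] [Flat f] [Surjective f]
    (hY : Pi1.IsNormalScheme Y)
    (hfib : ∀ y : Y, ringKrullDim (Y.presheaf.stalk y) = 1 → IsIntegral (f.fiber y))
    (𝓙 : X.IdealSheafData) (hJ : BlowUp.IsEffCartierIdeal 𝓙)
    (hη : ∀ x : X, (∀ z : Y, z ⤳ f x → z = f x) → x ∉ 𝓙.support)
    (U : Y.affineOpens) (p : PrimeSpectrum Γ(Y, U.1))
    (hdim : ringKrullDim (Y.presheaf.stalk (U.2.fromSpec p)) ≤ 1) :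
    ∃ I₁ : Ideal Γ(Y, U.1), ∀ (W : X.affineOpens) (e : W.1 ≤ f ⁻¹ᵁ U.1) (q : Ideal Γ(X, W.1)),
      q.IsPrime → q.comap (f.appLE U.1 W.1 e).hom ≤ p.asIdeal →
        (∀ a ∈ I₁, ∃ s ∉ q, s * (f.appLE U.1 W.1 e).hom a ∈ 𝓙.ideal W) ∧
          ∀ b ∈ 𝓙.ideal W, ∃ s ∉ q, s * b ∈ I₁.map (f.appLE U.1 W.1 e).hom := by
  classical
  haveI : IsNoetherianRing Γ(Y, U.1) := IsLocallyNoetherian.component_noetherian U
  set y := U.2.fromSpec p with hy
  have hyU : y ∈ U.1 := U.2.range_fromSpec.le ⟨_, rfl⟩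
  have hpy : pr U hyU = p.asIdeal := pr_fromSpec U p hyU
  have hh : p.asIdeal.height ≤ 1 := by
    rw [← hpy]
    rw [ringKrullDim_stalk_eq U hyU] at hdim
    exact_mod_cast hdim
  -- points strictly above `y` are maximal
  have hmax : ∀ x : X, f x ⤳ y → f x ≠ y → ∀ z : Y, z ⤳ f x → z = f x := by
    intro x hxy hne z hz
    by_contra hzne
    have hxU : f x ∈ U.1 := hxy.mem_open U.1.2 hyU
    have hzU : z ∈ U.1 := hz.mem_open U.1.2 hxU
    haveI : (pr U hxU).IsPrime := (U.2.primeIdealOf _).isPrime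
    haveI : (pr U hzU).IsPrime := (U.2.primeIdealOf _).isPrime
    haveI : (pr U hyU).IsPrime := (U.2.primeIdealOf _).isPrime
    have h1 : pr U hzU < pr U hxU := lt_of_le_of_ne (pr_le_of_specializes U hxU hzU hz) fun h =>
      hzne (Specializes.antisymm hz (specializes_of_pr_le U hzU hxU h.ge)).eq
    have h2 : pr U hxU < pr U hyU := lt_of_le_of_ne (pr_le_of_specializes U hyU hxU hxy) fun h =>
      hne (Specializes.antisymm hxy (specializes_of_pr_le U hxU hyU h.ge)).eq
    have h3 := Ideal.height_strict_mono_of_isPrime_of_isPrime h1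
    have h4 := Ideal.height_strict_mono_of_isPrime_of_isPrime h2
    rw [hpy] at h4
    have h5 : (pr U hxU).height = 0 := ENat.lt_one_iff_eq_zero.1 (lt_of_lt_of_le h4 hh)
    rw [h5] at h3
    exact (not_lt.2 zero_le) h3
  -- membership criterion
  have hconv : ∀ (W : X.affineOpens) (e : W.1 ≤ f ⁻¹ᵁ U.1) (q : Ideal Γ(X, W.1)) (hq : q.IsPrime)
      (hx : W.2.fromSpec ⟨q, hq⟩ ∈ W.1) (I₁ : Ideal Γ(Y, U.1)),
      stI 𝓙 W hx = ((I₁.map (f.appLE U.1 W.1 e).hom)).map (X.presheaf.germ W.1 _ hx).hom →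
      (∀ a ∈ I₁, ∃ s ∉ q, s * (f.appLE U.1 W.1 e).hom a ∈ 𝓙.ideal W) ∧
          ∀ b ∈ 𝓙.ideal W, ∃ s ∉ q, s * b ∈ I₁.map (f.appLE U.1 W.1 e).hom := by
    intro W e q hq hx I₁ heq
    have hpr : pr W hx = q := pr_fromSpec W ⟨q, hq⟩ hx
    refine ⟨fun a ha => ?_, fun b hb => ?_⟩
    · have h1 : (X.presheaf.germ W.1 _ hx).hom ((f.appLE U.1 W.1 e).hom a) ∈ stI 𝓙 W hx :=
        heq ▸ Ideal.mem_map_of_mem _ (Ideal.mem_map_of_mem _ ha)
      obtain ⟨s, hs, hs'⟩ := (germ_mem_map_iff W hx _ _).1 h1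
      exact ⟨s, hpr ▸ hs, hs'⟩
    · have h1 : (X.presheaf.germ W.1 _ hx).hom b ∈ (I₁.map (f.appLE U.1 W.1 e).hom).map
          (X.presheaf.germ W.1 _ hx).hom := heq ▸ Ideal.mem_map_of_mem _ hb
      obtain ⟨s, hs, hs'⟩ := (germ_mem_map_iff W hx _ _).1 h1
      exact ⟨s, hpr ▸ hs, hs'⟩
  -- off the support
  have htop : ∀ (W : X.affineOpens) {x : X} (hx : x ∈ W.1), (∀ z : Y, z ⤳ f x → z = f x) →
      stI 𝓙 W hx = ⊤ := by
    intro W x hx hm
    by_contra hne
    refine hη x hm ((mem_support_iff_le 𝓙 W hx).2 fun a ha => ?_)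
    by_contra hna
    letI := TopCat.Presheaf.algebra_section_stalk X.presheaf (⟨x, hx⟩ : W.1)
    haveI : IsLocalization.AtPrime (X.presheaf.stalk x) (pr W hx) := W.2.isLocalization_stalk ⟨x, hx⟩
    exact hne (Ideal.eq_top_of_isUnit_mem _ (Ideal.mem_map_of_mem _ ha)
      (IsLocalization.map_units (X.presheaf.stalk x) (M := (pr W hx).primeCompl) ⟨a, hna⟩))
  by_cases hymax : ∀ z : Y, z ⤳ y → z = y
  · refine ⟨⊤, fun W e q hq hqp => ?_⟩
    have hx : W.2.fromSpec ⟨q, hq⟩ ∈ W.1 := W.2.range_fromSpec.le ⟨_, rfl⟩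
    refine hconv W e q hq hx ⊤ ?_
    have hxy : f (W.2.fromSpec ⟨q, hq⟩) ⤳ y := by
      rw [apply_fromSpec f U W e, hy]
      exact Specializes.map ((PrimeSpectrum.le_iff_specializes _ _).1 hqp) U.2.fromSpec.continuous
    rw [htop W hx (by rw [hymax _ hxy]; exact hymax), Ideal.map_top, Ideal.map_top]
  -- `O_y` is a discrete valuation ring
  have hdim1 : ringKrullDim (Y.presheaf.stalk y) = 1 := by
    push Not at hymax
    obtain ⟨z, hz, hzy⟩ := hymax
    refine le_antisymm hdim ?_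
    have hzU : z ∈ U.1 := hz.mem_open U.1.2 hyU
    haveI : (pr U hzU).IsPrime := (U.2.primeIdealOf _).isPrime
    haveI : (pr U hyU).IsPrime := (U.2.primeIdealOf _).isPrime
    have h1 := Ideal.height_strict_mono_of_isPrime_of_isPrime (lt_of_le_of_ne (pr_le_of_specializes U hyU hzU hz) fun h =>
      hzy (Specializes.antisymm hz (specializes_of_pr_le U hzU hyU h.ge)).eq)
    rw [ringKrullDim_stalk_eq U hyU]
    exact_mod_cast (Order.one_le_iff_pos.2 (lt_of_le_of_lt zero_le h1))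
  haveI := hfib y hdim1
  haveI : IsDomain (Y.presheaf.stalk y) := (hY y).1
  have hprinc : (maximalIdeal (Y.presheaf.stalk y)).IsPrincipal := by
    haveI : Ring.KrullDimLE 1 (Y.presheaf.stalk y) := Ring.krullDimLE_iff.2 hdim
    refine (((tfae_of_isNoetherianRing_of_isLocalRing_of_isDomain (R := Y.presheaf.stalk y)).out 3 4) :
      (IsIntegrallyClosed (Y.presheaf.stalk y) ∧ ∀ P : Ideal (Y.presheaf.stalk y), P ≠ ⊥ → P.IsPrime →
        P = maximalIdeal (Y.presheaf.stalk y)) ↔ (maximalIdeal (Y.presheaf.stalk y)).IsPrincipal).1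
      ⟨(hY y).2, fun P hP hPp => ?_⟩
    exact IsLocalRing.eq_maximalIdeal (Ring.krullDimLE_one_iff_of_noZeroDivisors.1 ‹_› P hP hPp)
  obtain ⟨ϖ, hϖ⟩ := hprinc.principal
  letI : Algebra Γ(Y, U.1) (Y.presheaf.stalk y) := (Y.presheaf.germ U.1 y hyU).hom.toAlgebra
  haveI : IsLocalization.AtPrime (Y.presheaf.stalk y) p.asIdeal := U.2.isLocalization_stalk' p hyU
  obtain ⟨⟨π, s⟩, hπs⟩ := IsLocalization.surj p.asIdeal.primeCompl ϖ
  have hm : maximalIdeal (Y.presheaf.stalk y) = Ideal.span {(Y.presheaf.germ U.1 y hyU).hom π} := by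
    rw [hϖ, show (Y.presheaf.germ U.1 y hyU).hom π = algebraMap Γ(Y, U.1) (Y.presheaf.stalk y) π from rfl,
      ← hπs, Ideal.span_singleton_mul_right_unit (IsLocalization.map_units _ s)]
  have hπp : π ∈ p.asIdeal := (IsLocalization.AtPrime.to_map_mem_maximal_iff (Y.presheaf.stalk y)
    p.asIdeal π).1 (hm ▸ Ideal.mem_span_singleton_self _)
  have hπ0 : (Y.presheaf.germ U.1 y hyU).hom π ≠ 0 := by
    intro h0
    have hbot : maximalIdeal (Y.presheaf.stalk y) = ⊥ := by rw [hm, h0]; simp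
    have := (IsLocalRing.isField_iff_maximalIdeal_eq.2 hbot)
    rw [ringKrullDim_eq_zero_of_isField this] at hdim1
    exact zero_ne_one hdim1
  -- the generator of the maximal ideal is not in a smaller prime
  have hπnot : ∀ x : X, f x ⤳ y → f x ≠ y → ∀ hxU : f x ∈ U.1, π ∉ pr U hxU := by
    intro x hxy hne hxU hmem
    apply hne
    refine (Specializes.antisymm hxy (specializes_of_pr_le U hxU hyU ?_)).eq
    rw [hpy]
    intro a ha
    haveI : (pr U hxU).IsPrime := (U.2.primeIdealOf _).isPrime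
    have h1 : algebraMap Γ(Y, U.1) (Y.presheaf.stalk y) a ∈
        (Ideal.span {π}).map (algebraMap Γ(Y, U.1) (Y.presheaf.stalk y)) := by
      rw [Ideal.map_span, Set.image_singleton]
      exact hm ▸ (IsLocalization.AtPrime.to_map_mem_maximal_iff (Y.presheaf.stalk y) p.asIdeal a).2 ha
    obtain ⟨t, ht, hta⟩ :=
      (IsLocalization.algebraMap_mem_map_algebraMap_iff p.asIdeal.primeCompl (Y.presheaf.stalk y) _ a).1 h1
    obtain ⟨c, hc⟩ := Ideal.mem_span_singleton.1 hta
    have h2 : t * a ∈ pr U hxU := hc ▸ Ideal.mul_mem_right _ _ hmem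
    refine (Ideal.IsPrime.mem_or_mem inferInstance h2).resolve_left fun htx => ht ?_
    rw [← hpy]
    exact pr_le_of_specializes U hyU hxU hxy htx
  -- the image of the uniformiser at a point over `y`
  have hK : ∀ (W : X.affineOpens) (e : W.1 ≤ f ⁻¹ᵁ U.1) {x : X} (hx : x ∈ W.1), f x = y →
      let u := (X.presheaf.germ W.1 x hx).hom ((f.appLE U.1 W.1 e).hom π)
      u ∈ nonZeroDivisors (X.presheaf.stalk x) ∧ (Ideal.span {u}).IsPrime ∧
        ∃ m : ℕ, stI 𝓙 W hx = Ideal.span {u ^ m} := by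
    intro W e x hx hfx u
    have hu : u = (f.stalkMap x).hom ((Y.presheaf.germ U.1 (f x) (e hx)).hom π) := by
      rw [← CommRingCat.comp_apply, Scheme.Hom.germ_stalkMap, CommRingCat.comp_apply]
      show (X.presheaf.germ W.1 x hx).hom ((f.appLE U.1 W.1 e).hom π) = _
      rw [Scheme.Hom.appLE, CommRingCat.comp_apply]
      exact TopCat.Presheaf.germ_res_apply X.presheaf (homOfLE e) x hx _
    obtain ⟨hm', hne'⟩ : maximalIdeal (Y.presheaf.stalk (f x)) =
        Ideal.span {(Y.presheaf.germ U.1 (f x) (e hx)).hom π} ∧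
        (Y.presheaf.germ U.1 (f x) (e hx)).hom π ≠ 0 := by
      clear_value y
      subst hfx
      exact ⟨hm, hπ0⟩
    haveI : IsDomain (Y.presheaf.stalk (f x)) := (hY (f x)).1
    have hnzd : u ∈ nonZeroDivisors (X.presheaf.stalk x) := by
      rw [hu]
      exact BlowUpLib.mem_nonZeroDivisors_map_of_flat (f.stalkMap x) (Flat.stalkMap f x)
        (mem_nonZeroDivisors_of_ne_zero hne')
    have hprime : (Ideal.span {u}).IsPrime := by
      haveI : IsIntegral (f.fiber (f x)) := hfib _ (hfx ▸ hdim1)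
      obtain ⟨ψ⟩ := CMFlat.nonempty_fiberStalk_equiv f x
      rw [hu, ← Set.image_singleton, ← Ideal.map_span, ← hm', ← Ideal.Quotient.isDomain_iff_prime]
      exact ψ.injective.isDomain
    refine ⟨hnzd, hprime, ?_⟩
    obtain ⟨g, hg, hge⟩ := exists_stI_generator hJ W hx
    haveI : IsNoetherianRing (X.presheaf.stalk x) := inferInstance
    obtain ⟨m, hm2⟩ := exists_eq_span_pow_of_support hnzd hprime hg fun Q hQ hgQ => by
      by_contra hπQ
      let Q' : PrimeSpectrum Γ(X, W.1) :=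
        ⟨Q.comap (X.presheaf.germ W.1 x hx).hom, hQ.comap _⟩
      have hzW : W.2.fromSpec Q' ∈ W.1 := W.2.range_fromSpec.le ⟨_, rfl⟩
      have hzpr : pr W hzW = Q'.asIdeal := pr_fromSpec W Q' hzW
      have hle : Q'.asIdeal ≤ pr W hx := fun a ha => by
        by_contra hna
        letI := TopCat.Presheaf.algebra_section_stalk X.presheaf (⟨x, hx⟩ : W.1)
        haveI : IsLocalization.AtPrime (X.presheaf.stalk x) (pr W hx) := W.2.isLocalization_stalk ⟨x, hx⟩
        exact hQ.ne_top (Ideal.eq_top_of_isUnit_mem _ ha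
          (IsLocalization.map_units (X.presheaf.stalk x) (M := (pr W hx).primeCompl) ⟨a, hna⟩))
      have hzx : W.2.fromSpec Q' ⤳ x := specializes_of_pr_le W hx hzW (hzpr ▸ hle)
      have hfz : f (W.2.fromSpec Q') ⤳ y := hfx ▸ hzx.map f.continuous
      have hzsupp : W.2.fromSpec Q' ∈ 𝓙.support := by
        rw [mem_support_iff_le 𝓙 W hzW, hzpr]
        intro a ha
        have : (X.presheaf.germ W.1 x hx).hom a ∈ stI 𝓙 W hx := Ideal.mem_map_of_mem _ ha
        rw [hge] at this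
        obtain ⟨c, hc⟩ := Ideal.mem_span_singleton.1 this
        show (X.presheaf.germ W.1 x hx).hom a ∈ Q
        rw [hc]
        exact Q.mul_mem_right _ hgQ
      have hfzy : f (W.2.fromSpec Q') = y := by
        by_contra hne
        exact hη _ (hmax _ hfz hne) hzsupp
      apply hπQ
      have h1 : PrimeSpectrum.comap (f.appLE U.1 W.1 e).hom Q' = p :=
        U.2.fromSpec.isOpenEmbedding.injective ((apply_fromSpec f U W e Q').symm.trans hfzy)
      have h2 : π ∈ (PrimeSpectrum.comap (f.appLE U.1 W.1 e).hom Q').asIdeal := h1.symm ▸ hπp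
      exact h2
    exact ⟨m, hge.trans hm2⟩
  -- the multiplicity at the generic point of the fibre
  let ξ : X := f.fiberι y (genericPoint (f.fiber y))
  have hξ : f ξ = y := by
    have := f.range_fiberι y
    exact (this.subset ⟨_, rfl⟩ : ξ ∈ f ⁻¹' {y})
  obtain ⟨W₀, hW₀, hξW₀, hW₀le⟩ := exists_isAffineOpen_mem_and_subset
    (show ξ ∈ f ⁻¹ᵁ U.1 by show f ξ ∈ U.1; rw [hξ]; exact hyU)
  obtain ⟨-, -, n, hn⟩ := hK ⟨W₀, hW₀⟩ hW₀le hξW₀ hξ
  refine ⟨Ideal.span {π ^ n}, fun W e q hq hqp => ?_⟩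
  set x := W.2.fromSpec ⟨q, hq⟩ with hxdef
  have hx : x ∈ W.1 := W.2.range_fromSpec.le ⟨_, rfl⟩
  refine hconv W e q hq hx _ ?_
  rw [Ideal.map_span, Set.image_singleton, Ideal.map_span, Set.image_singleton, map_pow, map_pow]
  have hxy : f x ⤳ y := by
    rw [hxdef, apply_fromSpec f U W e, hy]
    exact Specializes.map ((PrimeSpectrum.le_iff_specializes _ _).1 hqp) U.2.fromSpec.continuous
  by_cases hfx : f x = y
  · obtain ⟨-, -, m, hmx⟩ := hK W e hx hfx
    obtain ⟨w, hw⟩ : x ∈ Set.range (f.fiberι y) := by rw [f.range_fiberι]; exact hfx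
    have hξx : ξ ⤳ x := hw ▸ ((genericPoint_spec (f.fiber y)).specializes trivial).map (f.fiberι y).continuous
    have hξW : ξ ∈ W.1 := hξx.mem_open W.1.2 hx
    obtain ⟨hnz, hpr', m', hm'⟩ := hK W e hξW hξ
    let u := (f.appLE U.1 W.1 e).hom π
    have hgerm : ∀ a, (X.presheaf.stalkSpecializes hξx).hom ((X.presheaf.germ W.1 x hx).hom a) =
        (X.presheaf.germ W.1 ξ hξW).hom a := fun a => by
      rw [← CommRingCat.comp_apply, TopCat.Presheaf.germ_stalkSpecializes]
    have h1 : (stI 𝓙 W hx).map (X.presheaf.stalkSpecializes hξx).hom = stI 𝓙 W hξW := by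
      rw [stI, stI, Ideal.map_map]
      exact congrArg (fun φ => Ideal.map φ _) (RingHom.ext hgerm)
    have huniq : ∀ (a b : ℕ), Ideal.span {(X.presheaf.germ W.1 ξ hξW).hom u ^ a} =
        Ideal.span {(X.presheaf.germ W.1 ξ hξW).hom u ^ b} → a ≤ b := by
      intro a b hab
      by_contra hlt
      obtain ⟨c, hc⟩ := Ideal.mem_span_singleton.1 (hab ▸ Ideal.mem_span_singleton_self
        ((X.presheaf.germ W.1 ξ hξW).hom u ^ b) : (X.presheaf.germ W.1 ξ hξW).hom u ^ b ∈
          Ideal.span {(X.presheaf.germ W.1 ξ hξW).hom u ^ a})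
      obtain ⟨d, rfl⟩ := Nat.exists_eq_add_of_lt (not_le.1 hlt)
      refine hpr'.ne_top (Ideal.span_singleton_eq_top.2 (IsUnit.of_mul_eq_one
        ((X.presheaf.germ W.1 ξ hξW).hom u ^ d * c) ?_))
      refine ((mul_cancel_left_mem_nonZeroDivisors (pow_mem hnz b)).1 ?_)
      rw [mul_one]
      refine Eq.trans ?_ hc.symm
      ring
    have h2 : Ideal.span {(X.presheaf.germ W.1 ξ hξW).hom u ^ m} =
        Ideal.span {(X.presheaf.germ W.1 ξ hξW).hom u ^ m'} := by
      refine Eq.trans ?_ hm'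
      rw [← h1, hmx, Ideal.map_span, Set.image_singleton, map_pow, hgerm]
    have h3 : Ideal.span {(X.presheaf.germ W.1 ξ hξW).hom u ^ n} =
        Ideal.span {(X.presheaf.germ W.1 ξ hξW).hom u ^ m'} := by
      refine Eq.trans ?_ hm'
      rw [stI_eq 𝓙 W ⟨W₀, hW₀⟩ hξW hξW₀, hn]
      congr 3
      rw [← CommRingCat.comp_apply, ← CommRingCat.comp_apply]
      show (f.appLE U.1 W.1 e ≫ X.presheaf.germ W.1 ξ hξW).hom π =
        (f.appLE U.1 W₀ hW₀le ≫ X.presheaf.germ W₀ ξ hξW₀).hom π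
      rw [Scheme.Hom.appLE, Scheme.Hom.appLE, Category.assoc, Category.assoc, TopCat.Presheaf.germ_res,
        TopCat.Presheaf.germ_res]
    have hnm : n = m := le_antisymm (huniq _ _ (h3.trans h2.symm)) (huniq _ _ (h2.trans h3.symm))
    rw [hmx, hnm]
  · rw [htop W hx (hmax _ hxy hfx), eq_comm, Ideal.span_singleton_eq_top]
    refine IsUnit.pow _ ?_
    by_contra hnu
    letI := TopCat.Presheaf.algebra_section_stalk X.presheaf (⟨x, hx⟩ : W.1)
    haveI : IsLocalization.AtPrime (X.presheaf.stalk x) (pr W hx) := W.2.isLocalization_stalk ⟨x, hx⟩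
    refine hπnot x hxy hfx (e hx) ?_
    have h1 : (f.appLE U.1 W.1 e).hom π ∈ pr W hx :=
      (IsLocalization.AtPrime.to_map_mem_maximal_iff (X.presheaf.stalk x) (pr W hx) _).1
        ((IsLocalRing.mem_maximalIdeal _).2 hnu)
    have h2 : (U.2.primeIdealOf ⟨f x, e hx⟩) = PrimeSpectrum.comap (f.appLE U.1 W.1 e).hom ⟨q, hq⟩ := by
      apply U.2.fromSpec.isOpenEmbedding.injective
      rw [← apply_fromSpec f U W e]
      exact U.2.fromSpec_primeIdealOf ⟨f x, e hx⟩
    show π ∈ (U.2.primeIdealOf ⟨f x, e hx⟩).asIdeal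
    rw [h2]
    rw [pr_fromSpec W ⟨q, hq⟩ hx] at h1
    exact h1

end Groth.Agent.DivDesc
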