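import Groth.Agent.DivDesc.Normal
import Groth.Agent.GoingDown.Dedekind
import Mathlib

/-!
# Vertical effective divisors with uniform order over a normal base, fibres without embedded points
-/

set_option autoImplicit false
set_option backward.isDefEq.respectTransparency false
set_option backward.isDefEq.respectTransparency.types false
set_option linter.style.haveILetI false

universe u

open CategoryTheory CategoryTheory.Limits AlgebraicGeometry TopologicalSpace IsLocalRing

namespace Groth.Agent.DivDesc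

open DivPart

/-- Membership in an invertible ideal is detected at the associated points of an auxiliary divisor. -/
theorem mem_span_of_assocPrimes {R : Type u} [CommRing R] [IsNoetherianRing R] {π b a : R}
    (hπ : π ∈ nonZeroDivisors R) (hb : b ∈ nonZeroDivisors R) (hsupp : ∀ Q : Ideal R, Q.IsPrime → b ∈ Q → π ∈ Q)
    (h : ∀ Q : Ideal R, Q.IsPrime → (∃ c, ∀ z, z ∈ Q ↔ π ∣ z * c) → ∃ s ∉ Q, s * a ∈ Ideal.span {b}) :
    a ∈ Ideal.span {b} := by
  by_contra ha
  have hz : Ideal.Quotient.mk (Ideal.span {b}) a ≠ 0 := fun h0 => ha (Ideal.Quotient.eq_zero_iff_mem.1 h0)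
  obtain ⟨Q, hQ, hle⟩ := exists_le_isAssociatedPrime_of_isNoetherianRing R _ hz
  obtain ⟨hQp, w, hw⟩ := isAssociatedPrime_iff.1 hQ
  obtain ⟨β, rfl⟩ := Ideal.Quotient.mk_surjective w
  have hmem : ∀ z, z ∈ Q ↔ b ∣ z * β := fun z => by
    rw [hw, Submodule.mem_colon_singleton, Submodule.mem_bot, Algebra.smul_def, Ideal.Quotient.algebraMap_eq,
      ← map_mul, Ideal.Quotient.eq_zero_iff_mem, Ideal.mem_span_singleton]
  have hbQ : b ∈ Q := (hmem b).2 (dvd_mul_right b β)
  obtain ⟨c, hc⟩ := (hmem π).1 (hsupp Q hQp hbQ)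
  obtain ⟨s, hs, hsa⟩ := h Q hQp ⟨c, fun z => by
    rw [hmem]
    constructor
    · rintro ⟨d, hd⟩
      refine ⟨d, (mul_cancel_left_mem_nonZeroDivisors hb).1 ?_⟩
      linear_combination π * hd - z * hc
    · rintro ⟨d, hd⟩
      refine ⟨d, (mul_cancel_left_mem_nonZeroDivisors hπ).1 ?_⟩
      linear_combination b * hd + z * hc⟩
  refine hs (hle ?_)
  rwa [Submodule.mem_colon_singleton, Submodule.mem_bot, Algebra.smul_def, Ideal.Quotient.algebraMap_eq,
    ← map_mul, Ideal.Quotient.eq_zero_iff_mem]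

theorem isAssociatedPrime_of_maximalPt {Z : Scheme.{u}} {w : Z} [IsNoetherianRing (Z.presheaf.stalk w)]
    (hw : ∀ v, v ⤳ w → v = w) :
    IsAssociatedPrime (maximalIdeal (Z.presheaf.stalk w)) (Z.presheaf.stalk w) := by
  refine Module.associatedPrimes.minimalPrimes_annihilator_subset_associatedPrimes (Z.presheaf.stalk w)
    (Z.presheaf.stalk w) ⟨⟨inferInstance, fun a ha => ?_⟩, fun P hP hle => ?_⟩
  · have : a = 0 := by simpa using Module.mem_annihilator.1 ha (1 : Z.presheaf.stalk w)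
    rw [this]
    exact zero_mem _
  · let P' : Spec (Z.presheaf.stalk w) := ⟨P, hP.1⟩
    let M' : Spec (Z.presheaf.stalk w) := closedPoint (Z.presheaf.stalk w)
    have h1 : Z.fromSpecStalk w P' = Z.fromSpecStalk w M' := by
      have h2 : Z.fromSpecStalk w P' ⤳ w := by
        have : Z.fromSpecStalk w P' ∈ Set.range (Z.fromSpecStalk w) := ⟨P', rfl⟩
        rwa [Scheme.range_fromSpecStalk] at this
      rw [hw _ h2]
      exact Scheme.fromSpecStalk_closedPoint.symm
    exact ((congrArg PrimeSpectrum.asIdeal ((Z.fromSpecStalk w).isEmbedding.injective h1)).ge)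

variable {X Y : Scheme.{u}} (f : X ⟶ Y)

theorem span_germ_congr (U : Y.affineOpens) {π : Γ(Y, U.1)} {y y' : Y} (h : y' = y) (hy : y ∈ U.1) (hy' : y' ∈ U.1)
    (hm : maximalIdeal (Y.presheaf.stalk y) = Ideal.span {(Y.presheaf.germ U.1 y hy).hom π}) :
    maximalIdeal (Y.presheaf.stalk y') = Ideal.span {(Y.presheaf.germ U.1 y' hy').hom π} := by
  subst h
  exact hm

theorem isNoetherianRing_fiber_stalk [IsLocallyNoetherian X] (y : Y) (w : f.fiber y) :
    IsNoetherianRing ((f.fiber y).presheaf.stalk w) :=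
  isNoetherianRing_of_surjective _ _ ((f.fiberι y).stalkMap w).hom ((f.fiberι y).stalkMap_surjective w)

/-- The ideal at a point over a codimension one point, from its order at the maximal points of the fibre. -/
theorem stI_eq_of_order [IsLocallyNoetherian X] [IsLocallyNoetherian Y] [Flat f]
    (hfib : ∀ y : Y, ringKrullDim (Y.presheaf.stalk y) = 1 → ∀ z z' : f.fiber y,
      IsAssociatedPrime (maximalIdeal ((f.fiber y).presheaf.stalk z)) ((f.fiber y).presheaf.stalk z) →
      IsAssociatedPrime (maximalIdeal ((f.fiber y).presheaf.stalk z')) ((f.fiber y).presheaf.stalk z') →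
      z' ⤳ z → z' = z)
    {𝓙 : X.IdealSheafData} {y : Y} {n : ℕ}
    (hn : ∀ t : Y.presheaf.stalk y, maximalIdeal (Y.presheaf.stalk y) = Ideal.span {t} →
      ∀ (x : X) (hx : f x = y), (∀ z : X, f z = y → z ⤳ x → z = x) →
        (𝓙.comap (X.fromSpecStalk x)).ideal ⟨⊤, isAffineOpen_top _⟩ =
          Ideal.span {(Scheme.ΓSpecIso (X.presheaf.stalk x)).inv
            (((f.stalkMap x).hom ((Y.presheaf.stalkCongr (.of_eq hx.symm)).hom t)) ^ n)})
    (U : Y.affineOpens) (hyU : y ∈ U.1) {π : Γ(Y, U.1)}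
    (hm : maximalIdeal (Y.presheaf.stalk y) = Ideal.span {(Y.presheaf.germ U.1 y hyU).hom π})
    (hπ0 : (Y.presheaf.germ U.1 y hyU).hom π ≠ 0) (hY : Pi1.IsNormalScheme Y)
    (hdim1 : ringKrullDim (Y.presheaf.stalk y) = 1) (hJ : BlowUp.IsEffCartierIdeal 𝓙)
    (W : X.affineOpens) (e : W.1 ≤ f ⁻¹ᵁ U.1) {x : X} (hx : x ∈ W.1) (hfx : f x = y)
    (hsupp : ∀ z ∈ W.1, z ⤳ x → z ∈ 𝓙.support → f z = y) :
    stI 𝓙 W hx = Ideal.span {(X.presheaf.germ W.1 x hx).hom ((f.appLE U.1 W.1 e).hom π) ^ n} := by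
  subst hfx
  set π' := (f.appLE U.1 W.1 e).hom π
  have hu : ∀ (z : X) (hz : z ∈ W.1), (X.presheaf.germ W.1 z hz).hom π' =
      (f.stalkMap z).hom ((Y.presheaf.germ U.1 (f z) (e hz)).hom π) := fun z hz => by
    rw [← CommRingCat.comp_apply, ← CommRingCat.comp_apply, Scheme.Hom.germ_stalkMap, CommRingCat.comp_apply,
      CommRingCat.comp_apply]
    show (X.presheaf.germ W.1 z hz).hom ((f.appLE U.1 W.1 e).hom π) = _
    rw [Scheme.Hom.appLE, CommRingCat.comp_apply]
    exact TopCat.Presheaf.germ_res_apply X.presheaf (homOfLE e) z hz _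
  haveI : IsDomain (Y.presheaf.stalk (f x)) := (hY (f x)).1
  have hnzd : (X.presheaf.germ W.1 x hx).hom π' ∈ nonZeroDivisors (X.presheaf.stalk x) := by
    rw [hu]
    exact BlowUpLib.mem_nonZeroDivisors_map_of_flat (f.stalkMap x) (Flat.stalkMap f x)
      (mem_nonZeroDivisors_of_ne_zero hπ0)
  -- the points of associated primes
  have hpt : ∀ Q : Ideal (X.presheaf.stalk x), Q.IsPrime →
      (∃ c, ∀ z, z ∈ Q ↔ (X.presheaf.germ W.1 x hx).hom π' ∣ z * c) →
      ∃ (z : X) (hzW : z ∈ W.1),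
        stI 𝓙 W hzW = Ideal.span {(X.presheaf.germ W.1 z hzW).hom π' ^ n} ∧
        ∀ r, r ∈ pr W hzW ↔ (X.presheaf.germ W.1 x hx).hom r ∈ Q := by
    intro Q hQ ⟨c₀, hc₀⟩
    letI := TopCat.Presheaf.algebra_section_stalk X.presheaf (⟨x, hx⟩ : W.1)
    haveI : IsLocalization.AtPrime (X.presheaf.stalk x) (pr W hx) := W.2.isLocalization_stalk ⟨x, hx⟩
    obtain ⟨⟨c, s₀⟩, hcs⟩ := IsLocalization.surj (pr W hx).primeCompl c₀
    have hc : ∀ z, z ∈ Q ↔ (X.presheaf.germ W.1 x hx).hom π' ∣ z * (X.presheaf.germ W.1 x hx).hom c := by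
      intro z
      rw [hc₀, show (X.presheaf.germ W.1 x hx).hom c = c₀ * algebraMap Γ(X, W.1) (X.presheaf.stalk x) s₀ from
        hcs.symm, ← mul_assoc, IsUnit.dvd_mul_right (IsLocalization.map_units _ s₀)]
    let Q' : PrimeSpectrum Γ(X, W.1) := ⟨Q.comap (X.presheaf.germ W.1 x hx).hom, hQ.comap _⟩
    let z := W.2.fromSpec Q'
    have hzW : z ∈ W.1 := W.2.range_fromSpec.le ⟨_, rfl⟩
    have hpr : pr W hzW = Q'.asIdeal := pr_fromSpec W Q' hzW
    have hiff : ∀ r, r ∈ pr W hzW ↔ (X.presheaf.germ W.1 x hx).hom r ∈ Q := fun r => by rw [hpr]; rfl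
    have hzx : z ⤳ x := by
      refine specializes_of_pr_le W hx hzW fun a ha => ?_
      by_contra hna
      exact hQ.ne_top (Ideal.eq_top_of_isUnit_mem _ ((hiff a).1 ha)
        (IsLocalization.map_units (X.presheaf.stalk x) (M := (pr W hx).primeCompl) ⟨a, hna⟩))
    have hπQ : π' ∈ pr W hzW := (hiff _).2 ((hc _).2 (dvd_mul_right _ _))
    -- the point lies over the same point
    have hfz : f z = f x := by
      have hzU : f z ∈ U.1 := e hzW
      have h1 : π ∈ pr U hzU := by
        have h2 : ¬ IsUnit ((X.presheaf.germ W.1 z hzW).hom π') := by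
          letI := TopCat.Presheaf.algebra_section_stalk X.presheaf (⟨z, hzW⟩ : W.1)
          haveI : IsLocalization.AtPrime (X.presheaf.stalk z) (pr W hzW) := W.2.isLocalization_stalk ⟨z, hzW⟩
          exact fun h => ((IsLocalization.AtPrime.isUnit_to_map_iff (X.presheaf.stalk z) (pr W hzW) π').1 h) hπQ
        rw [hu] at h2
        letI := TopCat.Presheaf.algebra_section_stalk Y.presheaf (⟨f z, hzU⟩ : U.1)
        haveI : IsLocalization.AtPrime (Y.presheaf.stalk (f z)) (pr U hzU) := U.2.isLocalization_stalk ⟨f z, hzU⟩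
        by_contra hn'
        exact h2 (IsUnit.map _ (IsLocalization.map_units (Y.presheaf.stalk (f z))
          (M := (pr U hzU).primeCompl) ⟨π, hn'⟩))
      refine (Specializes.antisymm (hzx.map f.continuous) (specializes_of_pr_le U hzU hyU fun a ha => ?_)).eq
      letI := TopCat.Presheaf.algebra_section_stalk Y.presheaf (⟨f x, hyU⟩ : U.1)
      haveI : IsLocalization.AtPrime (Y.presheaf.stalk (f x)) (pr U hyU) := U.2.isLocalization_stalk ⟨f x, hyU⟩
      have ha' : (Y.presheaf.germ U.1 (f x) hyU).hom a ∈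
          (Ideal.span {π}).map (Y.presheaf.germ U.1 (f x) hyU).hom := by
        rw [Ideal.map_span, Set.image_singleton, ← hm]
        exact (IsLocalization.AtPrime.to_map_mem_maximal_iff (Y.presheaf.stalk (f x)) (pr U hyU) a).2 ha
      obtain ⟨t, ht, hta⟩ := (germ_mem_map_iff U hyU _ a).1 ha'
      obtain ⟨d, hd⟩ := Ideal.mem_span_singleton.1 hta
      have h3 : t * a ∈ pr U hzU := hd ▸ Ideal.mul_mem_right _ _ h1
      exact ((U.2.primeIdealOf ⟨f z, hzU⟩).isPrime.mem_or_mem h3).resolve_left fun htz =>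
        ht (pr_le_of_specializes U hyU hzU (hzx.map f.continuous) htz)
    -- it is maximal in the fibre
    have hmax : ∀ z' : X, f z' = f x → z' ⤳ z → z' = z := by
      intro z' hz' hzz
      obtain ⟨ψ⟩ := CMFlat.nonempty_fiberStalk_equiv f z
      have hmz : (maximalIdeal (Y.presheaf.stalk (f z))).map (f.stalkMap z).hom =
          Ideal.span {(X.presheaf.germ W.1 z hzW).hom π'} := by
        have hm' : maximalIdeal (Y.presheaf.stalk (f z)) = Ideal.span {(Y.presheaf.germ U.1 (f z) (e hzW)).hom π} :=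
          span_germ_congr U hfz hyU (e hzW) hm
        rw [hm', Ideal.map_span, Set.image_singleton, ← hu]
      have hass : IsAssociatedPrime (maximalIdeal ((f.fiber (f z)).presheaf.stalk (f.asFiber z)))
          ((f.fiber (f z)).presheaf.stalk (f.asFiber z)) := by
        letI := TopCat.Presheaf.algebra_section_stalk X.presheaf (⟨z, hzW⟩ : W.1)
        haveI : IsLocalization.AtPrime (X.presheaf.stalk z) (pr W hzW) := W.2.isLocalization_stalk ⟨z, hzW⟩
        haveI := isNoetherianRing_fiber_stalk f _ (f.asFiber z)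
        let cz := ψ (Ideal.Quotient.mk _ ((X.presheaf.germ W.1 z hzW).hom c))
        refine isAssociatedPrime_iff.2 ⟨inferInstance, cz, le_antisymm (fun v hv => ?_) fun v hv => ?_⟩
        · obtain ⟨v, rfl⟩ := ψ.surjective v
          obtain ⟨v, rfl⟩ := Ideal.Quotient.mk_surjective v
          obtain ⟨⟨a, s⟩, has⟩ := IsLocalization.surj (pr W hzW).primeCompl v
          have hv' : ¬ IsUnit v := fun h => (IsLocalRing.mem_maximalIdeal _).1 hv ((h.map (Ideal.Quotient.mk _)).map ψ)
          have ha : a ∈ pr W hzW := by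
            by_contra hna
            exact hv' (isUnit_of_mul_isUnit_left (has ▸ IsLocalization.map_units (X.presheaf.stalk z)
              (M := (pr W hzW).primeCompl) ⟨a, hna⟩))
          obtain ⟨d, hd⟩ := (hc _).1 ((hiff a).1 ha)
          have hd' := congrArg (X.presheaf.stalkSpecializes hzx).hom hd
          have hgerm : ∀ r, (X.presheaf.stalkSpecializes hzx).hom ((X.presheaf.germ W.1 x hx).hom r) =
              (X.presheaf.germ W.1 z hzW).hom r := fun r => by
            rw [← CommRingCat.comp_apply, TopCat.Presheaf.germ_stalkSpecializes]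
          rw [map_mul, map_mul, hgerm, hgerm, hgerm] at hd'
          rw [Submodule.mem_colon_singleton, Submodule.mem_bot, smul_eq_mul]
          rw [← map_mul ψ, ← map_mul (Ideal.Quotient.mk _), map_eq_zero_iff ψ ψ.injective,
            Ideal.Quotient.eq_zero_iff_mem, hmz]
          refine (Ideal.unit_mul_mem_iff_mem _ (IsLocalization.map_units (X.presheaf.stalk z) s)).1 ?_
          rw [Ideal.mem_span_singleton, ← mul_assoc, mul_comm _ v, has]
          exact ⟨_, hd'⟩
        · rw [Submodule.mem_colon_singleton, Submodule.mem_bot, smul_eq_mul] at hv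
          refine (IsLocalRing.mem_maximalIdeal _).2 fun hvu => ?_
          have h0 : (X.presheaf.germ W.1 z hzW).hom c ∈ Ideal.span {(X.presheaf.germ W.1 z hzW).hom π'} := by
            rw [← hmz, ← Ideal.Quotient.eq_zero_iff_mem]
            exact ψ.injective ((hvu.mul_right_eq_zero.1 hv).trans (map_zero ψ).symm)
          rw [← Set.image_singleton, ← Ideal.map_span] at h0
          obtain ⟨s, hs, hsc⟩ := (germ_mem_map_iff W hzW _ c).1 h0
          refine hs ((hiff s).2 ((hc _).2 ?_))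
          rw [← map_mul]
          exact map_dvd _ (Ideal.mem_span_singleton.1 hsc)
      have hdim : ringKrullDim (Y.presheaf.stalk (f z)) = 1 := by rw [hfz]; exact hdim1
      obtain ⟨w', hw'⟩ : z' ∈ Set.range (f.fiberι (f z)) := by rw [f.range_fiberι, hfz]; exact hz'
      obtain ⟨w, hwm, hww'⟩ := GoingDown.exists_maximalPt_specializes w'
      haveI := isNoetherianRing_fiber_stalk f _ w
      have hw'z : w' ⤳ f.asFiber z := by
        refine (f.fiberι (f z)).isEmbedding.isInducing.specializes_iff.1 ?_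
        rw [hw', f.fiberι_asFiber]
        exact hzz
      have h4 : w = f.asFiber z :=
        hfib _ hdim _ _ hass (isAssociatedPrime_of_maximalPt hwm) (hww'.trans hw'z)
      have h5 : w' = f.asFiber z := (Specializes.antisymm hw'z (h4 ▸ hww')).eq
      rw [← hw', h5, f.fiberι_asFiber]
    refine ⟨z, hzW, ?_, hiff⟩
    have h := hn _ hm z hfz hmax
    have hst : (Y.presheaf.stalkCongr (.of_eq hfz.symm)).hom ((Y.presheaf.germ U.1 (f x) hyU).hom π) =
        (Y.presheaf.germ U.1 (f z) (e hzW)).hom π := by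
      show (Y.presheaf.germ U.1 (f x) hyU ≫ Y.presheaf.stalkSpecializes (Inseparable.of_eq hfz.symm).ge).hom π = _
      rw [TopCat.Presheaf.germ_stalkSpecializes]
    rw [hst, ← hu, ← W.2.fromSpecStalk_eq_fromSpecStalk hzW] at h
    apply FpqcDescent.map_injective_of_bijective
      (Scheme.ΓSpecIso (X.presheaf.stalk z)).symm.commRingCatIsoToRingEquiv.bijective
    refine (ideal_comap_specMap_fromSpec 𝓙 W (X.presheaf.germ W.1 z hzW).hom).symm.trans ?_
    rw [Ideal.map_span, Set.image_singleton]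
    exact h
  obtain ⟨g, hg, hge⟩ := exists_stI_generator hJ W hx
  refine le_antisymm (Ideal.map_le_iff_le_comap.2 fun a ha => ?_) ((Ideal.span_singleton_le_iff_mem _).2 ?_)
  · refine mem_span_of_assocPrimes hnzd (pow_mem hnzd n) (fun Q hQ h => hQ.mem_of_pow_mem n h)
      fun Q hQ hc => ?_
    obtain ⟨z, hzW, hzI, hiff⟩ := hpt Q hQ hc
    have h1 : (X.presheaf.germ W.1 z hzW).hom a ∈ (Ideal.span {π' ^ n}).map (X.presheaf.germ W.1 z hzW).hom := by
      rw [Ideal.map_span, Set.image_singleton, map_pow, ← hzI]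
      exact Ideal.mem_map_of_mem _ ha
    obtain ⟨s, hs, hsa⟩ := (germ_mem_map_iff W hzW _ a).1 h1
    refine ⟨(X.presheaf.germ W.1 x hx).hom s, fun h => hs ((hiff s).2 h), ?_⟩
    rw [← map_mul, Ideal.mem_span_singleton, ← map_pow]
    exact map_dvd _ (Ideal.mem_span_singleton.1 hsa)
  · rw [hge]
    refine mem_span_of_assocPrimes hnzd hg (fun Q hQ hgQ => ?_) fun Q hQ hc => ?_
    · letI := TopCat.Presheaf.algebra_section_stalk X.presheaf (⟨x, hx⟩ : W.1)
      haveI : IsLocalization.AtPrime (X.presheaf.stalk x) (pr W hx) := W.2.isLocalization_stalk ⟨x, hx⟩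
      let Q' : PrimeSpectrum Γ(X, W.1) := ⟨Q.comap (X.presheaf.germ W.1 x hx).hom, hQ.comap _⟩
      have hzW : W.2.fromSpec Q' ∈ W.1 := W.2.range_fromSpec.le ⟨_, rfl⟩
      have hpr : pr W hzW = Q'.asIdeal := pr_fromSpec W Q' hzW
      have hzx : W.2.fromSpec Q' ⤳ x := by
        refine specializes_of_pr_le W hx hzW fun a ha => ?_
        by_contra hna
        rw [hpr] at ha
        exact hQ.ne_top (Ideal.eq_top_of_isUnit_mem _ ha
          (IsLocalization.map_units (X.presheaf.stalk x) (M := (pr W hx).primeCompl) ⟨a, hna⟩))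
      have hfz : f (W.2.fromSpec Q') = f x := by
        refine hsupp _ hzW hzx ((mem_support_iff_le 𝓙 W hzW).2 fun a ha => ?_)
        rw [hpr]
        obtain ⟨d, hd⟩ := Ideal.mem_span_singleton.1 (hge ▸ Ideal.mem_map_of_mem _ ha :
          (X.presheaf.germ W.1 x hx).hom a ∈ Ideal.span {g})
        show (X.presheaf.germ W.1 x hx).hom a ∈ Q
        rw [hd]
        exact Q.mul_mem_right _ hgQ
      have h1 : PrimeSpectrum.comap (f.appLE U.1 W.1 e).hom Q' = U.2.primeIdealOf ⟨f x, hyU⟩ :=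
        U.2.fromSpec.isOpenEmbedding.injective (((apply_fromSpec f U W e Q').symm.trans hfz).trans
          (U.2.fromSpec_primeIdealOf ⟨f x, hyU⟩).symm)
      letI := TopCat.Presheaf.algebra_section_stalk Y.presheaf (⟨f x, hyU⟩ : U.1)
      haveI : IsLocalization.AtPrime (Y.presheaf.stalk (f x)) (pr U hyU) := U.2.isLocalization_stalk ⟨f x, hyU⟩
      have h2 : π ∈ pr U hyU := (IsLocalization.AtPrime.to_map_mem_maximal_iff (Y.presheaf.stalk (f x))
        (pr U hyU) π).1 (hm ▸ Ideal.mem_span_singleton_self _)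
      have h3 : π ∈ (PrimeSpectrum.comap (f.appLE U.1 W.1 e).hom Q').asIdeal := h1.symm ▸ h2
      exact h3
    · obtain ⟨z, hzW, hzI, hiff⟩ := hpt Q hQ hc
      have h1 : (X.presheaf.germ W.1 z hzW).hom (π' ^ n) ∈ (𝓙.ideal W).map (X.presheaf.germ W.1 z hzW).hom := by
        rw [map_pow]
        exact hzI.ge (Ideal.mem_span_singleton_self _)
      obtain ⟨s, hs, hsa⟩ := (germ_mem_map_iff W hzW _ _).1 h1
      refine ⟨(X.presheaf.germ W.1 x hx).hom s, fun h => hs ((hiff s).2 h), ?_⟩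
      rw [← hge, ← map_pow, ← map_mul]
      exact Ideal.mem_map_of_mem _ hsa

/-- At a point with no generisation outside itself but one, the local ideals are powers of a
uniformiser: fibres without embedded points and a uniform order. -/
theorem exists_agree_of_uniform_order [IsLocallyNoetherian X] [IsLocallyNoetherian Y] [Flat f] [Surjective f]
    (hY : Pi1.IsNormalScheme Y)
    (hfib : ∀ y : Y, ringKrullDim (Y.presheaf.stalk y) = 1 → ∀ z z' : f.fiber y,
      IsAssociatedPrime (maximalIdeal ((f.fiber y).presheaf.stalk z)) ((f.fiber y).presheaf.stalk z) →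
      IsAssociatedPrime (maximalIdeal ((f.fiber y).presheaf.stalk z')) ((f.fiber y).presheaf.stalk z') →
      z' ⤳ z → z' = z)
    (𝓙 : X.IdealSheafData) (hJ : BlowUp.IsEffCartierIdeal 𝓙)
    (hη : ∀ x : X, (∀ z : Y, z ⤳ f x → z = f x) → x ∉ 𝓙.support)
    (hord : ∀ y : Y, ringKrullDim (Y.presheaf.stalk y) = 1 → ∃ n : ℕ, ∀ t : Y.presheaf.stalk y,
      maximalIdeal (Y.presheaf.stalk y) = Ideal.span {t} →
      ∀ (x : X) (hx : f x = y), (∀ z : X, f z = y → z ⤳ x → z = x) →
        (𝓙.comap (X.fromSpecStalk x)).ideal ⟨⊤, isAffineOpen_top _⟩ =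
          Ideal.span {(Scheme.ΓSpecIso (X.presheaf.stalk x)).inv
            (((f.stalkMap x).hom ((Y.presheaf.stalkCongr (.of_eq hx.symm)).hom t)) ^ n)})
    (U : Y.affineOpens) (p : PrimeSpectrum Γ(Y, U.1))
    (hdim : ringKrullDim (Y.presheaf.stalk (U.2.fromSpec p)) ≤ 1) :
    ∃ I₁ : Ideal Γ(Y, U.1), ∀ (W : X.affineOpens) (e : W.1 ≤ f ⁻¹ᵁ U.1) (q : Ideal Γ(X, W.1)),
      q.IsPrime → q.comap (f.appLE U.1 W.1 e).hom ≤ p.asIdeal →
        (∀ a ∈ I₁, ∃ s ∉ q, s * (f.appLE U.1 W.1 e).hom a ∈ 𝓙.ideal W) ∧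
          ∀ b ∈ 𝓙.ideal W, ∃ s ∉ q, s * b ∈ I₁.map (f.appLE U.1 W.1 e).hom := by
  classical
  haveI : IsNoetherianRing Γ(Y, U.1) := IsLocallyNoetherian.component_noetherian U
  set y := U.2.fromSpec p with hy
  have hyU : y ∈ U.1 := U.2.range_fromSpec.le ⟨_, rfl⟩
  have hpy : pr U hyU = p.asIdeal := pr_fromSpec U p hyU
  have hh : p.asIdeal.height ≤ 1 := by
    rw [← hpy]
    rw [ringKrullDim_stalk_eq U hyU] at hdim
    exact_mod_cast hdim
  -- points strictly above `y` are maximal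
  have hmax : ∀ x : X, f x ⤳ y → f x ≠ y → ∀ z : Y, z ⤳ f x → z = f x := by
    intro x hxy hne z hz
    by_contra hzne
    have hxU : f x ∈ U.1 := hxy.mem_open U.1.2 hyU
    have hzU : z ∈ U.1 := hz.mem_open U.1.2 hxU
    haveI : (pr U hxU).IsPrime := (U.2.primeIdealOf _).isPrime
    haveI : (pr U hzU).IsPrime := (U.2.primeIdealOf _).isPrime
    haveI : (pr U hyU).IsPrime := (U.2.primeIdealOf _).isPrime
    have h1 : pr U hzU < pr U hxU := lt_of_le_of_ne (pr_le_of_specializes U hxU hzU hz) fun h =>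
      hzne (Specializes.antisymm hz (specializes_of_pr_le U hzU hxU h.ge)).eq
    have h2 : pr U hxU < pr U hyU := lt_of_le_of_ne (pr_le_of_specializes U hyU hxU hxy) fun h =>
      hne (Specializes.antisymm hxy (specializes_of_pr_le U hxU hyU h.ge)).eq
    have h3 := Ideal.height_strict_mono_of_isPrime_of_isPrime h1
    have h4 := Ideal.height_strict_mono_of_isPrime_of_isPrime h2
    rw [hpy] at h4
    have h5 : (pr U hxU).height = 0 := ENat.lt_one_iff_eq_zero.1 (lt_of_lt_of_le h4 hh)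
    rw [h5] at h3
    exact (not_lt.2 zero_le) h3
  -- membership criterion
  have hconv : ∀ (W : X.affineOpens) (e : W.1 ≤ f ⁻¹ᵁ U.1) (q : Ideal Γ(X, W.1)) (hq : q.IsPrime)
      (hx : W.2.fromSpec ⟨q, hq⟩ ∈ W.1) (I₁ : Ideal Γ(Y, U.1)),
      stI 𝓙 W hx = ((I₁.map (f.appLE U.1 W.1 e).hom)).map (X.presheaf.germ W.1 _ hx).hom →
      (∀ a ∈ I₁, ∃ s ∉ q, s * (f.appLE U.1 W.1 e).hom a ∈ 𝓙.ideal W) ∧
          ∀ b ∈ 𝓙.ideal W, ∃ s ∉ q, s * b ∈ I₁.map (f.appLE U.1 W.1 e).hom := by
    intro W e q hq hx I₁ heq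
    have hpr : pr W hx = q := pr_fromSpec W ⟨q, hq⟩ hx
    refine ⟨fun a ha => ?_, fun b hb => ?_⟩
    · have h1 : (X.presheaf.germ W.1 _ hx).hom ((f.appLE U.1 W.1 e).hom a) ∈ stI 𝓙 W hx :=
        heq ▸ Ideal.mem_map_of_mem _ (Ideal.mem_map_of_mem _ ha)
      obtain ⟨s, hs, hs'⟩ := (germ_mem_map_iff W hx _ _).1 h1
      exact ⟨s, hpr ▸ hs, hs'⟩
    · have h1 : (X.presheaf.germ W.1 _ hx).hom b ∈ (I₁.map (f.appLE U.1 W.1 e).hom).map
          (X.presheaf.germ W.1 _ hx).hom := heq ▸ Ideal.mem_map_of_mem _ hb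
      obtain ⟨s, hs, hs'⟩ := (germ_mem_map_iff W hx _ _).1 h1
      exact ⟨s, hpr ▸ hs, hs'⟩
  -- off the support
  have htop : ∀ (W : X.affineOpens) {x : X} (hx : x ∈ W.1), (∀ z : Y, z ⤳ f x → z = f x) →
      stI 𝓙 W hx = ⊤ := by
    intro W x hx hm
    by_contra hne
    refine hη x hm ((mem_support_iff_le 𝓙 W hx).2 fun a ha => ?_)
    by_contra hna
    letI := TopCat.Presheaf.algebra_section_stalk X.presheaf (⟨x, hx⟩ : W.1)
    haveI : IsLocalization.AtPrime (X.presheaf.stalk x) (pr W hx) := W.2.isLocalization_stalk ⟨x, hx⟩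
    exact hne (Ideal.eq_top_of_isUnit_mem _ (Ideal.mem_map_of_mem _ ha)
      (IsLocalization.map_units (X.presheaf.stalk x) (M := (pr W hx).primeCompl) ⟨a, hna⟩))
  by_cases hymax : ∀ z : Y, z ⤳ y → z = y
  · refine ⟨⊤, fun W e q hq hqp => ?_⟩
    have hx : W.2.fromSpec ⟨q, hq⟩ ∈ W.1 := W.2.range_fromSpec.le ⟨_, rfl⟩
    refine hconv W e q hq hx ⊤ ?_
    have hxy : f (W.2.fromSpec ⟨q, hq⟩) ⤳ y := by
      rw [apply_fromSpec f U W e, hy]
      exact Specializes.map ((PrimeSpectrum.le_iff_specializes _ _).1 hqp) U.2.fromSpec.continuous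
    rw [htop W hx (by rw [hymax _ hxy]; exact hymax), Ideal.map_top, Ideal.map_top]
  -- `O_y` is a discrete valuation ring
  have hdim1 : ringKrullDim (Y.presheaf.stalk y) = 1 := by
    push Not at hymax
    obtain ⟨z, hz, hzy⟩ := hymax
    refine le_antisymm hdim ?_
    have hzU : z ∈ U.1 := hz.mem_open U.1.2 hyU
    haveI : (pr U hzU).IsPrime := (U.2.primeIdealOf _).isPrime
    haveI : (pr U hyU).IsPrime := (U.2.primeIdealOf _).isPrime
    have h1 := Ideal.height_strict_mono_of_isPrime_of_isPrime (lt_of_le_of_ne (pr_le_of_specializes U hyU hzU hz) fun h =>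
      hzy (Specializes.antisymm hz (specializes_of_pr_le U hzU hyU h.ge)).eq)
    rw [ringKrullDim_stalk_eq U hyU]
    exact_mod_cast (Order.one_le_iff_pos.2 (lt_of_le_of_lt zero_le h1))
  haveI : IsDomain (Y.presheaf.stalk y) := (hY y).1
  have hprinc : (maximalIdeal (Y.presheaf.stalk y)).IsPrincipal := by
    haveI : Ring.KrullDimLE 1 (Y.presheaf.stalk y) := Ring.krullDimLE_iff.2 hdim
    refine (((tfae_of_isNoetherianRing_of_isLocalRing_of_isDomain (R := Y.presheaf.stalk y)).out 3 4) :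
      (IsIntegrallyClosed (Y.presheaf.stalk y) ∧ ∀ P : Ideal (Y.presheaf.stalk y), P ≠ ⊥ → P.IsPrime →
        P = maximalIdeal (Y.presheaf.stalk y)) ↔ (maximalIdeal (Y.presheaf.stalk y)).IsPrincipal).1
      ⟨(hY y).2, fun P hP hPp => ?_⟩
    exact IsLocalRing.eq_maximalIdeal (Ring.krullDimLE_one_iff_of_noZeroDivisors.1 ‹_› P hP hPp)
  obtain ⟨ϖ, hϖ⟩ := hprinc.principal
  letI : Algebra Γ(Y, U.1) (Y.presheaf.stalk y) := (Y.presheaf.germ U.1 y hyU).hom.toAlgebra
  haveI : IsLocalization.AtPrime (Y.presheaf.stalk y) p.asIdeal := U.2.isLocalization_stalk' p hyU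
  obtain ⟨⟨π, s⟩, hπs⟩ := IsLocalization.surj p.asIdeal.primeCompl ϖ
  have hm : maximalIdeal (Y.presheaf.stalk y) = Ideal.span {(Y.presheaf.germ U.1 y hyU).hom π} := by
    rw [hϖ, show (Y.presheaf.germ U.1 y hyU).hom π = algebraMap Γ(Y, U.1) (Y.presheaf.stalk y) π from rfl,
      ← hπs, Ideal.span_singleton_mul_right_unit (IsLocalization.map_units _ s)]
  have hπp : π ∈ p.asIdeal := (IsLocalization.AtPrime.to_map_mem_maximal_iff (Y.presheaf.stalk y)
    p.asIdeal π).1 (hm ▸ Ideal.mem_span_singleton_self _)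
  have hπ0 : (Y.presheaf.germ U.1 y hyU).hom π ≠ 0 := by
    intro h0
    have hbot : maximalIdeal (Y.presheaf.stalk y) = ⊥ := by rw [hm, h0]; simp
    have := (IsLocalRing.isField_iff_maximalIdeal_eq.2 hbot)
    rw [ringKrullDim_eq_zero_of_isField this] at hdim1
    exact zero_ne_one hdim1
  -- the generator of the maximal ideal is not in a smaller prime
  have hπnot : ∀ x : X, f x ⤳ y → f x ≠ y → ∀ hxU : f x ∈ U.1, π ∉ pr U hxU := by
    intro x hxy hne hxU hmem
    apply hne
    refine (Specializes.antisymm hxy (specializes_of_pr_le U hxU hyU ?_)).eq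
    rw [hpy]
    intro a ha
    haveI : (pr U hxU).IsPrime := (U.2.primeIdealOf _).isPrime
    have h1 : algebraMap Γ(Y, U.1) (Y.presheaf.stalk y) a ∈
        (Ideal.span {π}).map (algebraMap Γ(Y, U.1) (Y.presheaf.stalk y)) := by
      rw [Ideal.map_span, Set.image_singleton]
      exact hm ▸ (IsLocalization.AtPrime.to_map_mem_maximal_iff (Y.presheaf.stalk y) p.asIdeal a).2 ha
    obtain ⟨t, ht, hta⟩ :=
      (IsLocalization.algebraMap_mem_map_algebraMap_iff p.asIdeal.primeCompl (Y.presheaf.stalk y) _ a).1 h1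
    obtain ⟨c, hc⟩ := Ideal.mem_span_singleton.1 hta
    have h2 : t * a ∈ pr U hxU := hc ▸ Ideal.mul_mem_right _ _ hmem
    refine (Ideal.IsPrime.mem_or_mem inferInstance h2).resolve_left fun htx => ht ?_
    rw [← hpy]
    exact pr_le_of_specializes U hyU hxU hxy htx
  -- the ideals at the points over `y`
  obtain ⟨n, hn⟩ := hord y hdim1
  have hK : ∀ (W : X.affineOpens) (e : W.1 ≤ f ⁻¹ᵁ U.1) {x : X} (hx : x ∈ W.1), f x = y →
      stI 𝓙 W hx = Ideal.span {(X.presheaf.germ W.1 x hx).hom ((f.appLE U.1 W.1 e).hom π) ^ n} := by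
    intro W e x hx hfx
    refine stI_eq_of_order f hfib hn U hyU hm hπ0 hY hdim1 hJ W e hx hfx fun z hzW hzx hzs => ?_
    by_contra hne
    exact hη _ (hmax _ (hfx ▸ hzx.map f.continuous) hne) hzs
  refine ⟨Ideal.span {π ^ n}, fun W e q hq hqp => ?_⟩
  set x := W.2.fromSpec ⟨q, hq⟩ with hxdef
  have hx : x ∈ W.1 := W.2.range_fromSpec.le ⟨_, rfl⟩
  refine hconv W e q hq hx _ ?_
  rw [Ideal.map_span, Set.image_singleton, Ideal.map_span, Set.image_singleton, map_pow, map_pow]
  have hxy : f x ⤳ y := by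
    rw [hxdef, apply_fromSpec f U W e, hy]
    exact Specializes.map ((PrimeSpectrum.le_iff_specializes _ _).1 hqp) U.2.fromSpec.continuous
  by_cases hfx : f x = y
  · exact hK W e hx hfx
  · rw [htop W hx (hmax _ hxy hfx), eq_comm, Ideal.span_singleton_eq_top]
    refine IsUnit.pow _ ?_
    by_contra hnu
    letI := TopCat.Presheaf.algebra_section_stalk X.presheaf (⟨x, hx⟩ : W.1)
    haveI : IsLocalization.AtPrime (X.presheaf.stalk x) (pr W hx) := W.2.isLocalization_stalk ⟨x, hx⟩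
    refine hπnot x hxy hfx (e hx) ?_
    have h1 : (f.appLE U.1 W.1 e).hom π ∈ pr W hx :=
      (IsLocalization.AtPrime.to_map_mem_maximal_iff (X.presheaf.stalk x) (pr W hx) _).1
        ((IsLocalRing.mem_maximalIdeal _).2 hnu)
    have h2 : (U.2.primeIdealOf ⟨f x, e hx⟩) = PrimeSpectrum.comap (f.appLE U.1 W.1 e).hom ⟨q, hq⟩ := by
      apply U.2.fromSpec.isOpenEmbedding.injective
      rw [← apply_fromSpec f U W e]
      exact U.2.fromSpec_primeIdealOf ⟨f x, e hx⟩
    show π ∈ (U.2.primeIdealOf ⟨f x, e hx⟩).asIdeal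
    rw [h2]
    rw [pr_fromSpec W ⟨q, hq⟩ hx] at h1
    exact h1

end Groth.Agent.DivDesc
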