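import Groth.Agent.DivDesc.Alg
import Groth.Agent.FinFlatExt.Basic
import Groth.Agent.Purity.DepthPair
import Groth.Agent.BlowUpExist.Affine
import Groth.Agent.W7CDiv.CartierDescent

/-!
# Effective Cartier divisors descend when they do so at points of depth at most one
-/

set_option autoImplicit false
set_option backward.isDefEq.respectTransparency false
set_option backward.isDefEq.respectTransparency.types false
set_option linter.style.haveILetI false

universe u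

open CategoryTheory CategoryTheory.Limits AlgebraicGeometry TopologicalSpace

namespace Groth.Agent.DivDesc

variable {X Y : Scheme.{u}}

/-- A point associated to the quotient by a divisor has depth at most one. -/
theorem depth_le_one_of_gen {R : Type u} [CommRing R] [IsNoetherianRing R] [IsLocalRing R] {g β : R}
    (hg : g ∈ nonZeroDivisors R) (hβ : β ∉ Ideal.span {g})
    (hm : ∀ x ∈ IsLocalRing.maximalIdeal R, x * β ∈ Ideal.span {g}) : LocCoh.depth R R ≤ 1 := by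
  by_contra hd
  have h2 : (2 : ℕ∞) ≤ LocCoh.idealDepth (IsLocalRing.maximalIdeal R) R := by
    rw [not_le] at hd
    exact Order.add_one_le_of_lt hd
  obtain ⟨x, y, hx, hy, hpair⟩ := Purity.exists_pair_of_idealDepth h2
  obtain ⟨a, ha⟩ := Ideal.mem_span_singleton.1 (hm x hx)
  obtain ⟨c, hc⟩ := Ideal.mem_span_singleton.1 (hm y hy)
  have hcan : ∀ z : R, g * z = 0 → z = 0 := fun z hz => hg.1 z hz
  have h1 : y • a = x • c := by
    rw [smul_eq_mul, smul_eq_mul, ← sub_eq_zero]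
    refine hcan _ ?_
    linear_combination -y * ha + x * hc
  obtain ⟨z, hz⟩ := hpair.cancel a c h1
  apply hβ
  rw [Ideal.mem_span_singleton]
  refine ⟨z, ?_⟩
  rw [← sub_eq_zero]
  refine hpair.inj _ ?_
  rw [smul_eq_mul] at hz ⊢
  linear_combination ha + g * hz

theorem depth_le_one_of_ass [IsLocallyNoetherian X] {𝓙 : X.IdealSheafData} (hJ : BlowUp.IsEffCartierIdeal 𝓙)
    (W : X.affineOpens) {q : Ideal Γ(X, W.1)} (hqp : q.IsPrime)
    (hq : q ∈ associatedPrimes Γ(X, W.1) (Γ(X, W.1) ⧸ 𝓙.ideal W)) :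
    LocCoh.depth (X.presheaf.stalk (W.2.fromSpec ⟨q, hqp⟩)) (X.presheaf.stalk (W.2.fromSpec ⟨q, hqp⟩)) ≤ 1 := by
  set w : X := W.2.fromSpec ⟨q, hqp⟩ with hw
  have hwW : w ∈ W.1 := W.2.range_fromSpec.le ⟨_, rfl⟩
  obtain ⟨V, hwV, hVW, g, hg, he⟩ := BlowUpLib.exists_small_generator hJ (O := W.1) hwW
  let gW := (X.presheaf.germ W.1 w hwW)
  let gV := (X.presheaf.germ V.1 w hwV)
  have hJw : (𝓙.ideal W).map gW.hom = Ideal.span {gV.hom g} := by
    rw [← Set.image_singleton, ← Ideal.map_span, ← he,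
      ← Scheme.IdealSheafData.map_ideal 𝓙 (U := V) (V := W) hVW, Ideal.map_map, ← CommRingCat.hom_comp]
    refine congrArg (fun φ : Γ(X, W.1) ⟶ X.presheaf.stalk w => Ideal.map φ.hom (𝓙.ideal W)) ?_
    exact (X.presheaf.germ_res (homOfLE hVW) w hwV).symm
  have hgz : gV.hom g ∈ nonZeroDivisors (X.presheaf.stalk w) := by
    refine BlowUpLib.mem_nonZeroDivisors_map_of_flat gV ?_ hg
    letI := gV.hom.toAlgebra
    haveI := V.2.isLocalization_stalk ⟨w, hwV⟩
    exact IsLocalization.flat _ (V.2.primeIdealOf ⟨w, hwV⟩).asIdeal.primeCompl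
  haveI : IsNoetherianRing Γ(X, W.1) := IsLocallyNoetherian.component_noetherian W
  obtain ⟨-, z, hz⟩ := isAssociatedPrime_iff.1 hq
  obtain ⟨b, rfl⟩ := Ideal.Quotient.mk_surjective z
  have hmem : ∀ c, c ∈ q ↔ c * b ∈ 𝓙.ideal W := fun c => by
    rw [hz, Submodule.mem_colon_singleton, Submodule.mem_bot, Algebra.smul_def,
      Ideal.Quotient.algebraMap_eq, ← map_mul, Ideal.Quotient.eq_zero_iff_mem]
  letI : Algebra Γ(X, W.1) (X.presheaf.stalk w) := gW.hom.toAlgebra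
  haveI : IsLocalization.AtPrime (X.presheaf.stalk w) q := W.2.isLocalization_stalk' ⟨q, hqp⟩ hwW
  refine depth_le_one_of_gen hgz (β := gW.hom b) (fun h => ?_) fun x hx => ?_
  · rw [← hJw] at h
    obtain ⟨s, hs, hsb⟩ :=
      (IsLocalization.algebraMap_mem_map_algebraMap_iff q.primeCompl (X.presheaf.stalk w) (𝓙.ideal W) b).1 h
    exact hs ((hmem s).2 hsb)
  · rw [← hJw]
    rw [← IsLocalization.AtPrime.map_eq_maximalIdeal q (X.presheaf.stalk w)] at hx
    revert x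
    intro x hx
    induction hx using Submodule.span_induction with
    | mem y hy =>
      obtain ⟨c, hc, rfl⟩ := hy
      rw [show gW.hom b = algebraMap Γ(X, W.1) (X.presheaf.stalk w) b from rfl, ← map_mul]
      exact Ideal.mem_map_of_mem _ ((hmem c).1 hc)
    | zero => simp
    | add y y' _ _ hy hy' => rw [add_mul]; exact add_mem hy hy'
    | smul c y _ hy => rw [smul_eq_mul, mul_assoc]; exact Ideal.mul_mem_left _ _ hy

theorem ideal_comap_specMap_fromSpec (𝓙 : X.IdealSheafData) (W : X.affineOpens) {R : Type u} [CommRing R]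
    (χ : Γ(X, W.1) →+* R) :
    (𝓙.comap (Spec.map (CommRingCat.ofHom χ) ≫ W.2.fromSpec)).ideal ⟨⊤, isAffineOpen_top _⟩ =
      ((𝓙.ideal W).map χ).map (Scheme.ΓSpecIso (CommRingCat.of R)).inv.hom := by
  rw [Scheme.IdealSheafData.comap_comp, FpqcDescent.ideal_comap_of_isAffine,
    BlowUpExist.ideal_comap_fromSpec, Ideal.map_map, Ideal.map_map]
  congr 1
  exact congrArg CommRingCat.Hom.hom (Scheme.ΓSpecIso_inv_naturality (CommRingCat.ofHom χ)).symm

/-- An ideal on `Spec O_y` inducing the divisor at all points over generisations of `y`. -/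
theorem exists_agree_of_local (f : X ⟶ Y) (𝓙 : X.IdealSheafData) (U : Y.affineOpens)
    (p : PrimeSpectrum Γ(Y, U.1))
    (h : ∃ 𝓘₁ : (Spec (Y.presheaf.stalk (U.2.fromSpec p))).IdealSheafData,
      𝓘₁.comap (pullback.snd f (Y.fromSpecStalk (U.2.fromSpec p))) =
        𝓙.comap (pullback.fst f (Y.fromSpecStalk (U.2.fromSpec p)))) :
    ∃ I₁ : Ideal Γ(Y, U.1), ∀ (W : X.affineOpens) (e : W.1 ≤ f ⁻¹ᵁ U.1) (q : Ideal Γ(X, W.1)),
      q.IsPrime → q.comap (f.appLE U.1 W.1 e).hom ≤ p.asIdeal →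
        (∀ a ∈ I₁, ∃ s ∉ q, s * (f.appLE U.1 W.1 e).hom a ∈ 𝓙.ideal W) ∧
          ∀ b ∈ 𝓙.ideal W, ∃ s ∉ q, s * b ∈ I₁.map (f.appLE U.1 W.1 e).hom := by
  set y := U.2.fromSpec p with hy
  obtain ⟨𝓘₁, h₁⟩ := h
  have hyU : y ∈ U.1 := U.2.range_fromSpec.le ⟨_, rfl⟩
  let gU := (Y.presheaf.germ U.1 y hyU)
  let a₀ : Ideal (Y.presheaf.stalk y) :=
    (𝓘₁.ideal ⟨⊤, isAffineOpen_top _⟩).map (Scheme.ΓSpecIso (Y.presheaf.stalk y)).hom.hom
  letI : Algebra Γ(Y, U.1) (Y.presheaf.stalk y) := gU.hom.toAlgebra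
  haveI : IsLocalization.AtPrime (Y.presheaf.stalk y) p.asIdeal := U.2.isLocalization_stalk' p hyU
  refine ⟨a₀.comap gU.hom, fun W e q hq hqp => ?_⟩
  have ha₀ : (a₀.comap gU.hom).map gU.hom = a₀ := IsLocalization.map_comap p.asIdeal.primeCompl _ a₀
  let ψ := (f.appLE U.1 W.1 e).hom
  let R := Localization.AtPrime q
  let loc : Γ(X, W.1) →+* R := algebraMap _ _
  have hu : ∀ s : p.asIdeal.primeCompl, IsUnit ((loc.comp ψ) s) := fun s =>
    IsLocalization.map_units R (M := q.primeCompl) ⟨ψ s, fun h => s.2 (hqp h)⟩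
  let lift : Y.presheaf.stalk y →+* R := IsLocalization.lift hu
  have hlift : lift.comp gU.hom = loc.comp ψ := IsLocalization.lift_comp hu
  let h1 : Spec (CommRingCat.of R) ⟶ X := Spec.map (CommRingCat.ofHom loc) ≫ W.2.fromSpec
  let h2 : Spec (CommRingCat.of R) ⟶ Spec (Y.presheaf.stalk y) := Spec.map (CommRingCat.ofHom lift)
  have hcomp : h1 ≫ f = h2 ≫ Y.fromSpecStalk y := by
    rw [← U.2.fromSpecStalk_eq_fromSpecStalk hyU, IsAffineOpen.fromSpecStalk]
    show _ = Spec.map (CommRingCat.ofHom lift) ≫ Spec.map gU ≫ U.2.fromSpec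
    rw [Category.assoc, ← IsAffineOpen.SpecMap_appLE_fromSpec f U.2 W.2 e, ← Spec.map_comp_assoc,
      ← Spec.map_comp_assoc]
    congr 2
    exact CommRingCat.hom_ext hlift.symm
  have hJ : 𝓙.comap h1 = 𝓘₁.comap h2 := by
    have h0 := congrArg (fun I => Scheme.IdealSheafData.comap I (pullback.lift h1 h2 hcomp)) h₁
    simp only [← Scheme.IdealSheafData.comap_comp, pullback.lift_fst, pullback.lift_snd] at h0
    exact h0.symm
  have key : (𝓙.ideal W).map loc = ((a₀.comap gU.hom).map ψ).map loc := by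
    apply FpqcDescent.map_injective_of_bijective
      (Scheme.ΓSpecIso (CommRingCat.of R)).symm.commRingCatIsoToRingEquiv.bijective
    refine (ideal_comap_specMap_fromSpec 𝓙 W loc).symm.trans ?_
    rw [hJ, Ideal.map_map ψ loc, ← hlift, ← Ideal.map_map gU.hom lift, ha₀,
      FpqcDescent.ideal_comap_of_isAffine, Ideal.map_map, Ideal.map_map]
    refine congrArg (fun φ => Ideal.map φ (𝓘₁.ideal ⟨⊤, isAffineOpen_top _⟩)) ?_
    have h3 := Scheme.ΓSpecIso_inv_naturality (CommRingCat.ofHom lift)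
    have h4 : h2.appTop = (Scheme.ΓSpecIso (Y.presheaf.stalk y)).hom ≫ CommRingCat.ofHom lift ≫
        (Scheme.ΓSpecIso (CommRingCat.of R)).inv := by
      rw [h3]; exact ((Scheme.ΓSpecIso (Y.presheaf.stalk y)).hom_inv_id_assoc _).symm
    rw [h4]
    rfl
  refine ⟨fun a ha => ?_, fun b hb => ?_⟩
  · have h5 : loc (ψ a) ∈ (𝓙.ideal W).map loc :=
      key ▸ Ideal.mem_map_of_mem loc (Ideal.mem_map_of_mem ψ ha)
    obtain ⟨s, hs, hs'⟩ := (IsLocalization.algebraMap_mem_map_algebraMap_iff q.primeCompl R _ _).1 h5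
    exact ⟨s, hs, hs'⟩
  · have h5 : loc b ∈ ((a₀.comap gU.hom).map ψ).map loc := key ▸ Ideal.mem_map_of_mem loc hb
    obtain ⟨s, hs, hs'⟩ := (IsLocalization.algebraMap_mem_map_algebraMap_iff q.primeCompl R _ _).1 h5
    exact ⟨s, hs, hs'⟩

/-- The two pullbacks of the divisor to the self product agree. -/
theorem comap_fst_eq_comap_snd [IsLocallyNoetherian X] [IsLocallyNoetherian Y] (f : X ⟶ Y) [Flat f]
    (𝓙 : X.IdealSheafData) (hJ : BlowUp.IsEffCartierIdeal 𝓙)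
    (H : ∀ (U : Y.affineOpens) (p : PrimeSpectrum Γ(Y, U.1)),
      LocCoh.depth (Y.presheaf.stalk (U.2.fromSpec p)) (Y.presheaf.stalk (U.2.fromSpec p)) ≤ 1 →
      ∃ I₁ : Ideal Γ(Y, U.1), ∀ (W : X.affineOpens) (e : W.1 ≤ f ⁻¹ᵁ U.1) (q : Ideal Γ(X, W.1)),
        q.IsPrime → q.comap (f.appLE U.1 W.1 e).hom ≤ p.asIdeal →
          (∀ a ∈ I₁, ∃ s ∉ q, s * (f.appLE U.1 W.1 e).hom a ∈ 𝓙.ideal W) ∧
            ∀ b ∈ 𝓙.ideal W, ∃ s ∉ q, s * b ∈ I₁.map (f.appLE U.1 W.1 e).hom) :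
    𝓙.comap (pullback.fst f f) = 𝓙.comap (pullback.snd f f) := by
  classical
  let T := {p : X.affineOpens × X.affineOpens × Y.affineOpens //
    p.1.1 ≤ f ⁻¹ᵁ p.2.2.1 ∧ p.2.1.1 ≤ f ⁻¹ᵁ p.2.2.1}
  have hT : ∀ t : T, IsAffineOpen (pullback.fst f f ⁻¹ᵁ t.1.1.1 ⊓ pullback.snd f f ⁻¹ᵁ t.1.2.1.1) := fun t => by
    have : IsAffine t.1.2.2.1.toScheme := t.1.2.2.2
    have : IsAffine t.1.1.1.toScheme := t.1.1.2
    have : IsAffine t.1.2.1.1.toScheme := t.1.2.1.2
    exact .of_isIso (Scheme.Hom.isPullback_resLE (IsPullback.of_hasPullback f f) t.2.2 t.2.1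
      rfl).isoPullback.hom
  refine Scheme.IdealSheafData.ext_of_iSup_eq_top (fun t : T => ⟨_, hT t⟩) ?_ fun t => ?_
  · refine top_le_iff.mp fun z _ => ?_
    obtain ⟨U, hU, hzU, -⟩ := exists_isAffineOpen_mem_and_subset
      (Opens.mem_top (f (pullback.fst f f z)))
    have hz2 : f (pullback.snd f f z) ∈ U := by
      rw [← Scheme.Hom.comp_apply, ← pullback.condition, Scheme.Hom.comp_apply]
      exact hzU
    obtain ⟨V, hV, hzV, hVle⟩ := exists_isAffineOpen_mem_and_subset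
      (show pullback.fst f f z ∈ f ⁻¹ᵁ U from hzU)
    obtain ⟨W, hW, hzW, hWle⟩ := exists_isAffineOpen_mem_and_subset
      (show pullback.snd f f z ∈ f ⁻¹ᵁ U from hz2)
    exact Opens.mem_iSup.mpr ⟨⟨(⟨V, hV⟩, ⟨W, hW⟩, ⟨U, hU⟩), hVle, hWle⟩, hzV, hzW⟩
  obtain ⟨⟨V, W, U⟩, eV, eW⟩ := t
  rw [FpqcDescent.ideal_comap_appLE 𝓙 _ V ⟨_, hT ⟨⟨V, W, U⟩, eV, eW⟩⟩ inf_le_left,
    FpqcDescent.ideal_comap_appLE 𝓙 _ W ⟨_, hT ⟨⟨V, W, U⟩, eV, eW⟩⟩ inf_le_right]
  let O : Bool → X.affineOpens := fun b => if b then V else W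
  have eO : ∀ b, (O b).1 ≤ f ⁻¹ᵁ U.1 := fun b => by cases b <;> simp [O, eV, eW]
  let B : Bool → Type u := fun b => Γ(X, (O b).1)
  letI : ∀ b, Algebra Γ(Y, U.1) (B b) := fun b => (f.appLE U.1 (O b).1 (eO b)).hom.toAlgebra
  haveI : ∀ b, Module.Flat Γ(Y, U.1) (B b) := fun b => f.flat_appLE U.2 (O b).2 (eO b)
  haveI : IsNoetherianRing Γ(Y, U.1) := IsLocallyNoetherian.component_noetherian U
  haveI : ∀ b, IsNoetherianRing (B b) := fun b => IsLocallyNoetherian.component_noetherian (O b)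
  let J : ∀ b, Ideal (B b) := fun b => 𝓙.ideal (O b)
  have key : ∀ b, (⨅ b', (J b').comap (algebraMap Γ(Y, U.1) (B b'))).map (algebraMap Γ(Y, U.1) (B b)) =
      J b := by
    refine map_iInf B J fun b q hq => ?_
    haveI := hq.isPrime
    set p : PrimeSpectrum Γ(Y, U.1) := PrimeSpectrum.comap (f.appLE U.1 (O b).1 (eO b)).hom ⟨q, hq.isPrime⟩
      with hp
    have hfw : f ((O b).2.fromSpec ⟨q, hq.isPrime⟩) = U.2.fromSpec p := by
      have := congr($(IsAffineOpen.SpecMap_appLE_fromSpec f U.2 (O b).2 (eO b)).base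
        (⟨q, hq.isPrime⟩ : PrimeSpectrum Γ(X, (O b).1)))
      exact this.symm
    have hd : LocCoh.depth (Y.presheaf.stalk (U.2.fromSpec p)) (Y.presheaf.stalk (U.2.fromSpec p)) ≤ 1 := by
      rw [← hfw]
      exact (FinFlatExt.depth_le_stalk f _).trans (depth_le_one_of_ass hJ (O b) hq.isPrime hq)
    obtain ⟨I₁, hI₁⟩ := H U p hd
    exact ⟨I₁, fun b' q' hq' hle => hI₁ (O b') (eO b') q' hq' hle⟩
  have hV := key true
  have hW := key false
  change Ideal.map _ (J true) = Ideal.map _ (J false)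
  rw [← hV, ← hW, Ideal.map_map, Ideal.map_map]
  refine congrArg (fun φ => Ideal.map φ _) ?_
  show ((pullback.fst f f).appLE _ _ _).hom.comp (f.appLE U.1 (O true).1 (eO true)).hom =
    ((pullback.snd f f).appLE _ _ _).hom.comp (f.appLE U.1 (O false).1 (eO false)).hom
  rw [← CommRingCat.hom_comp, ← CommRingCat.hom_comp, Scheme.Hom.appLE_comp_appLE, Scheme.Hom.appLE_comp_appLE]
  exact congrArg CommRingCat.Hom.hom (FpqcDescent.appLE_congr pullback.condition _ _ _ _)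

theorem singleton_mem_fpqc (f : X ⟶ Y) [Flat f] [Surjective f] (hf : QuasiCompact f ∨ IsOpenMap f) :
    Presieve.ofArrows (fun _ : PUnit.{u+1} => X) (fun _ => f) ∈ Scheme.fpqcPrecoverage Y := by
  refine ⟨?_, (Scheme.ofArrows_mem_precoverage_iff _).mpr
    ⟨fun y => ⟨PUnit.unit, f.surjective y⟩, fun _ => inferInstance⟩⟩
  let E : PreZeroHypercover.{u} Y := { I₀ := PUnit, X := fun _ => X, f := fun _ => f }
  refine (Scheme.presieve₀_mem_qcPrecoverage_iff (E := E)).mpr ?_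
  rcases hf with hf | hf
  · exact ⟨fun {U} hU => .of_finite_of_isSpectralMap (fun _ => f.isSpectralMap)
      (fun x _ => ⟨PUnit.unit, f.surjective x⟩) U.2 hU.isCompact⟩
  · exact ⟨fun {U} hU => .of_isOpenMap (fun _ => f.continuous) (fun _ => hf)
      (fun x _ => ⟨PUnit.unit, f.surjective x⟩) U.2 hU.isCompact⟩

/-- Descent of an effective Cartier divisor from its restrictions over depth at most one. -/
theorem exists_descent [IsLocallyNoetherian X] [IsLocallyNoetherian Y] (f : X ⟶ Y) [Flat f] [Surjective f]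
    (hf : QuasiCompact f ∨ IsOpenMap f) (𝓙 : X.IdealSheafData) (hJ : BlowUp.IsEffCartierIdeal 𝓙)
    (H : ∀ (U : Y.affineOpens) (p : PrimeSpectrum Γ(Y, U.1)),
      LocCoh.depth (Y.presheaf.stalk (U.2.fromSpec p)) (Y.presheaf.stalk (U.2.fromSpec p)) ≤ 1 →
      ∃ I₁ : Ideal Γ(Y, U.1), ∀ (W : X.affineOpens) (e : W.1 ≤ f ⁻¹ᵁ U.1) (q : Ideal Γ(X, W.1)),
        q.IsPrime → q.comap (f.appLE U.1 W.1 e).hom ≤ p.asIdeal →
          (∀ a ∈ I₁, ∃ s ∉ q, s * (f.appLE U.1 W.1 e).hom a ∈ 𝓙.ideal W) ∧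
            ∀ b ∈ 𝓙.ideal W, ∃ s ∉ q, s * b ∈ I₁.map (f.appLE U.1 W.1 e).hom) :
    ∃ 𝓘 : Y.IdealSheafData, BlowUp.IsEffCartierIdeal 𝓘 ∧ 𝓘.comap f = 𝓙 := by
  obtain ⟨I, hI, -⟩ := FpqcDescent.existsUnique_descent (singleton_mem_fpqc f hf) (fun _ => 𝓙)
    fun _ _ => comap_fst_eq_comap_snd f 𝓙 hJ H
  exact ⟨I, W7CDiv.isEffCartierIdeal_of_comap f I ((hI PUnit.unit).symm ▸ hJ), hI PUnit.unit⟩

theorem flat_fromSpecStalk (Y : Scheme.{u}) (y : Y) : Flat (Y.fromSpecStalk y) := by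
  obtain ⟨U, hU, hyU, -⟩ := exists_isAffineOpen_mem_and_subset (Opens.mem_top y)
  rw [← hU.fromSpecStalk_eq_fromSpecStalk hyU, IsAffineOpen.fromSpecStalk]
  letI := (Y.presheaf.germ U y hyU).hom.toAlgebra
  haveI := hU.isLocalization_stalk ⟨y, hyU⟩
  have : Flat (Spec.map (Y.presheaf.germ U y hyU)) :=
    (HasRingHomProperty.Spec_iff (P := @Flat)).2
      (IsLocalization.flat (Y.presheaf.stalk y) (hU.primeIdealOf ⟨y, hyU⟩).asIdeal.primeCompl)
  infer_instance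

theorem exists_local_of_descent (f : X ⟶ Y) (𝓙 : X.IdealSheafData) {𝓘 : Y.IdealSheafData}
    (hI : BlowUp.IsEffCartierIdeal 𝓘) (he : 𝓘.comap f = 𝓙) (y : Y) :
    ∃ 𝓘₁ : (Spec (Y.presheaf.stalk y)).IdealSheafData, BlowUp.IsEffCartierIdeal 𝓘₁ ∧
      𝓘₁.comap (pullback.snd f (Y.fromSpecStalk y)) = 𝓙.comap (pullback.fst f (Y.fromSpecStalk y)) := by
  haveI := flat_fromSpecStalk Y y
  refine ⟨𝓘.comap (Y.fromSpecStalk y), BlowUpLib.cartier_comap_flat hI _, ?_⟩
  rw [← he, ← Scheme.IdealSheafData.comap_comp, ← Scheme.IdealSheafData.comap_comp, pullback.condition]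

end Groth.Agent.DivDesc
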